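import Cfsg.Agent.CosetEnum.Fi24H.Table

/-! Points fixed by the element of order eleven. -/

set_option autoImplicit false
set_option maxRecDepth 100000
set_option Elab.async false

namespace CfsgLib.Fi24Out

open CfsgLib.CosetEnum CfsgLib.CosetEnum.Fi24H

noncomputable section

/-- Points fixed by the element of order eleven. -/
def elevenFix (i : Nat) : Bool :=
  bif Nat.blt i 306936 then (force (u3 i) fun p1 => force (u2 p1) fun p2 => force (u4 p2) fun p3 => force (u3 p3) fun p4 => force (u5 p4) fun p5 => force (u4 p5) fun p6 => force (u3 p6) fun p7 => force (u1 p7) fun p8 => force (u7 p8) fun p9 => force (u2 p9) fun p10 => force (u3 p10) fun p11 => force (u4 p11) fun p12 => force (u5 p12) fun p13 => force (u4 p13) fun p14 => force (u0 p14) fun p15 => force (u1 p15) fun p16 => force (u8 p16) fun p17 => force (u7 p17) fun p18 => force (u5 p18) fun p19 => force (u6 p19) fun p20 => bif Nat.beq p20 i then (Nat.beq i 0 || Nat.beq i 111197 || Nat.beq i 87475) else true) else true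

theorem elevenFix0 : allR elevenFix 12 0 = true := by decide +kernel

theorem elevenFix1 : allR elevenFix 12 4096 = true := by decide +kernel

theorem elevenFix2 : allR elevenFix 12 8192 = true := by decide +kernel

theorem elevenFix3 : allR elevenFix 12 12288 = true := by decide +kernel

theorem elevenFix4 : allR elevenFix 12 16384 = true := by decide +kernel

theorem elevenFix5 : allR elevenFix 12 20480 = true := by decide +kernel

theorem elevenFix6 : allR elevenFix 12 24576 = true := by decide +kernel

theorem elevenFix7 : allR elevenFix 12 28672 = true := by decide +kernel

theorem elevenFix8 : allR elevenFix 12 32768 = true := by decide +kernel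

theorem elevenFix9 : allR elevenFix 12 36864 = true := by decide +kernel

theorem elevenFix10 : allR elevenFix 12 40960 = true := by decide +kernel

theorem elevenFix11 : allR elevenFix 12 45056 = true := by decide +kernel

theorem elevenFix12 : allR elevenFix 12 49152 = true := by decide +kernel

theorem elevenFix13 : allR elevenFix 12 53248 = true := by decide +kernel

theorem elevenFix14 : allR elevenFix 12 57344 = true := by decide +kernel

theorem elevenFix15 : allR elevenFix 12 61440 = true := by decide +kernel

theorem elevenFix16 : allR elevenFix 12 65536 = true := by decide +kernel

theorem elevenFix17 : allR elevenFix 12 69632 = true := by decide +kernel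

theorem elevenFix18 : allR elevenFix 12 73728 = true := by decide +kernel

theorem elevenFix19 : allR elevenFix 12 77824 = true := by decide +kernel

theorem elevenFix20 : allR elevenFix 12 81920 = true := by decide +kernel

theorem elevenFix21 : allR elevenFix 12 86016 = true := by decide +kernel

theorem elevenFix22 : allR elevenFix 12 90112 = true := by decide +kernel

theorem elevenFix23 : allR elevenFix 12 94208 = true := by decide +kernel

theorem elevenFix24 : allR elevenFix 12 98304 = true := by decide +kernel

theorem elevenFix25 : allR elevenFix 12 102400 = true := by decide +kernel

theorem elevenFix26 : allR elevenFix 12 106496 = true := by decide +kernel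

theorem elevenFix27 : allR elevenFix 12 110592 = true := by decide +kernel

theorem elevenFix28 : allR elevenFix 12 114688 = true := by decide +kernel

theorem elevenFix29 : allR elevenFix 12 118784 = true := by decide +kernel

theorem elevenFix30 : allR elevenFix 12 122880 = true := by decide +kernel

theorem elevenFix31 : allR elevenFix 12 126976 = true := by decide +kernel

theorem elevenFix32 : allR elevenFix 12 131072 = true := by decide +kernel

theorem elevenFix33 : allR elevenFix 12 135168 = true := by decide +kernel

theorem elevenFix34 : allR elevenFix 12 139264 = true := by decide +kernel

theorem elevenFix35 : allR elevenFix 12 143360 = true := by decide +kernel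

theorem elevenFix36 : allR elevenFix 12 147456 = true := by decide +kernel

theorem elevenFix37 : allR elevenFix 12 151552 = true := by decide +kernel

theorem elevenFix38 : allR elevenFix 12 155648 = true := by decide +kernel

theorem elevenFix39 : allR elevenFix 12 159744 = true := by decide +kernel

theorem elevenFix40 : allR elevenFix 12 163840 = true := by decide +kernel

theorem elevenFix41 : allR elevenFix 12 167936 = true := by decide +kernel

theorem elevenFix42 : allR elevenFix 12 172032 = true := by decide +kernel

theorem elevenFix43 : allR elevenFix 12 176128 = true := by decide +kernel

theorem elevenFix44 : allR elevenFix 12 180224 = true := by decide +kernel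

theorem elevenFix45 : allR elevenFix 12 184320 = true := by decide +kernel

theorem elevenFix46 : allR elevenFix 12 188416 = true := by decide +kernel

theorem elevenFix47 : allR elevenFix 12 192512 = true := by decide +kernel

theorem elevenFix48 : allR elevenFix 12 196608 = true := by decide +kernel

theorem elevenFix49 : allR elevenFix 12 200704 = true := by decide +kernel

theorem elevenFix50 : allR elevenFix 12 204800 = true := by decide +kernel

theorem elevenFix51 : allR elevenFix 12 208896 = true := by decide +kernel

theorem elevenFix52 : allR elevenFix 12 212992 = true := by decide +kernel

theorem elevenFix53 : allR elevenFix 12 217088 = true := by decide +kernel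

theorem elevenFix54 : allR elevenFix 12 221184 = true := by decide +kernel

theorem elevenFix55 : allR elevenFix 12 225280 = true := by decide +kernel

theorem elevenFix56 : allR elevenFix 12 229376 = true := by decide +kernel

theorem elevenFix57 : allR elevenFix 12 233472 = true := by decide +kernel

theorem elevenFix58 : allR elevenFix 12 237568 = true := by decide +kernel

theorem elevenFix59 : allR elevenFix 12 241664 = true := by decide +kernel

theorem elevenFix60 : allR elevenFix 12 245760 = true := by decide +kernel

theorem elevenFix61 : allR elevenFix 12 249856 = true := by decide +kernel

theorem elevenFix62 : allR elevenFix 12 253952 = true := by decide +kernel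

theorem elevenFix63 : allR elevenFix 12 258048 = true := by decide +kernel

theorem elevenFix64 : allR elevenFix 12 262144 = true := by decide +kernel

theorem elevenFix65 : allR elevenFix 12 266240 = true := by decide +kernel

theorem elevenFix66 : allR elevenFix 12 270336 = true := by decide +kernel

theorem elevenFix67 : allR elevenFix 12 274432 = true := by decide +kernel

theorem elevenFix68 : allR elevenFix 12 278528 = true := by decide +kernel

theorem elevenFix69 : allR elevenFix 12 282624 = true := by decide +kernel

theorem elevenFix70 : allR elevenFix 12 286720 = true := by decide +kernel

theorem elevenFix71 : allR elevenFix 12 290816 = true := by decide +kernel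

theorem elevenFix72 : allR elevenFix 12 294912 = true := by decide +kernel

theorem elevenFix73 : allR elevenFix 12 299008 = true := by decide +kernel

theorem elevenFix74 : allR elevenFix 12 303104 = true := by decide +kernel

theorem elevenFix_all : Wide.On elevenFix 0 306936 :=
  fun i hi hn => (((((((Wide.On.of_allR elevenFix0).append (Wide.On.of_allR elevenFix1)).append ((Wide.On.of_allR elevenFix2).append (Wide.On.of_allR elevenFix3))).append (((Wide.On.of_allR elevenFix4).append (Wide.On.of_allR elevenFix5)).append ((Wide.On.of_allR elevenFix6).append ((Wide.On.of_allR elevenFix7).append (Wide.On.of_allR elevenFix8))))).append ((((Wide.On.of_allR elevenFix9).append (Wide.On.of_allR elevenFix10)).append ((Wide.On.of_allR elevenFix11).append (Wide.On.of_allR elevenFix12))).append (((Wide.On.of_allR elevenFix13).append (Wide.On.of_allR elevenFix14)).append ((Wide.On.of_allR elevenFix15).append ((Wide.On.of_allR elevenFix16).append (Wide.On.of_allR elevenFix17)))))).append (((((Wide.On.of_allR elevenFix18).append (Wide.On.of_allR elevenFix19)).append ((Wide.On.of_allR elevenFix20).append (Wide.On.of_allR elevenFix21))).append (((Wide.On.of_allR elevenFix22).append (Wide.On.of_allR elevenFix23)).append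 ((Wide.On.of_allR elevenFix24).append ((Wide.On.of_allR elevenFix25).append (Wide.On.of_allR elevenFix26))))).append ((((Wide.On.of_allR elevenFix27).append (Wide.On.of_allR elevenFix28)).append ((Wide.On.of_allR elevenFix29).append ((Wide.On.of_allR elevenFix30).append (Wide.On.of_allR elevenFix31)))).append (((Wide.On.of_allR elevenFix32).append (Wide.On.of_allR elevenFix33)).append ((Wide.On.of_allR elevenFix34).append ((Wide.On.of_allR elevenFix35).append (Wide.On.of_allR elevenFix36))))))).append ((((((Wide.On.of_allR elevenFix37).append (Wide.On.of_allR elevenFix38)).append ((Wide.On.of_allR elevenFix39).append (Wide.On.of_allR elevenFix40))).append (((Wide.On.of_allR elevenFix41).append (Wide.On.of_allR elevenFix42)).append ((Wide.On.of_allR elevenFix43).append ((Wide.On.of_allR elevenFix44).append (Wide.On.of_allR elevenFix45))))).append ((((Wide.On.of_allR elevenFix46).append (Wide.On.of_allR elevenFix47)).append ((Wide.On.of_allR elevenFix48).append ((Wide.On.of_allR elevenFix49).append (Wide.On.of_allR elevenFix50)))).append (((Wide.On.of_allR elevenFix51).append (Wide.On.of_allR elevenFix52)).append ((Wide.On.of_allR elevenFix53).append ((Wide.On.of_allR elevenFix54).append (Wide.On.of_allR elevenFix55)))))).append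 (((((Wide.On.of_allR elevenFix56).append (Wide.On.of_allR elevenFix57)).append ((Wide.On.of_allR elevenFix58).append (Wide.On.of_allR elevenFix59))).append (((Wide.On.of_allR elevenFix60).append (Wide.On.of_allR elevenFix61)).append ((Wide.On.of_allR elevenFix62).append ((Wide.On.of_allR elevenFix63).append (Wide.On.of_allR elevenFix64))))).append ((((Wide.On.of_allR elevenFix65).append (Wide.On.of_allR elevenFix66)).append ((Wide.On.of_allR elevenFix67).append ((Wide.On.of_allR elevenFix68).append (Wide.On.of_allR elevenFix69)))).append (((Wide.On.of_allR elevenFix70).append (Wide.On.of_allR elevenFix71)).append ((Wide.On.of_allR elevenFix72).append ((Wide.On.of_allR elevenFix73).append (Wide.On.of_allR elevenFix74)))))))) i hi (by omega)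

end

end CfsgLib.Fi24Out
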