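import Cfsg.Agent.CosetEnum.Fi24H.Table

/-! Points fixed by products of two adjacent generators. -/

set_option autoImplicit false
set_option maxRecDepth 100000
set_option Elab.async false

namespace CfsgLib.Fi24Out

open CfsgLib.CosetEnum CfsgLib.CosetEnum.Fi24H

noncomputable section

/-- Points fixed by products of two adjacent generators. -/
def firstFix (i : Nat) : Bool :=
  bif Nat.blt i 306936 then (bif Nat.beq (u1 (u0 i)) i && Nat.beq (u2 (u1 i)) i && Nat.beq (u3 (u2 i)) i && Nat.beq (u4 (u3 i)) i && Nat.beq (u7 (u3 i)) i && Nat.beq (u5 (u4 i)) i && Nat.beq (u8 (u7 i)) i then (Nat.beq i 0 || Nat.beq i 1226 || Nat.beq i 71050 || Nat.beq i 87475) else true) else true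

theorem firstFix0 : allR firstFix 13 0 = true := by decide +kernel

theorem firstFix1 : allR firstFix 13 8192 = true := by decide +kernel

theorem firstFix2 : allR firstFix 13 16384 = true := by decide +kernel

theorem firstFix3 : allR firstFix 13 24576 = true := by decide +kernel

theorem firstFix4 : allR firstFix 13 32768 = true := by decide +kernel

theorem firstFix5 : allR firstFix 13 40960 = true := by decide +kernel

theorem firstFix6 : allR firstFix 13 49152 = true := by decide +kernel

theorem firstFix7 : allR firstFix 13 57344 = true := by decide +kernel

theorem firstFix8 : allR firstFix 13 65536 = true := by decide +kernel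

theorem firstFix9 : allR firstFix 13 73728 = true := by decide +kernel

theorem firstFix10 : allR firstFix 13 81920 = true := by decide +kernel

theorem firstFix11 : allR firstFix 13 90112 = true := by decide +kernel

theorem firstFix12 : allR firstFix 13 98304 = true := by decide +kernel

theorem firstFix13 : allR firstFix 13 106496 = true := by decide +kernel

theorem firstFix14 : allR firstFix 13 114688 = true := by decide +kernel

theorem firstFix15 : allR firstFix 13 122880 = true := by decide +kernel

theorem firstFix16 : allR firstFix 13 131072 = true := by decide +kernel

theorem firstFix17 : allR firstFix 13 139264 = true := by decide +kernel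

theorem firstFix18 : allR firstFix 13 147456 = true := by decide +kernel

theorem firstFix19 : allR firstFix 13 155648 = true := by decide +kernel

theorem firstFix20 : allR firstFix 13 163840 = true := by decide +kernel

theorem firstFix21 : allR firstFix 13 172032 = true := by decide +kernel

theorem firstFix22 : allR firstFix 13 180224 = true := by decide +kernel

theorem firstFix23 : allR firstFix 13 188416 = true := by decide +kernel

theorem firstFix24 : allR firstFix 13 196608 = true := by decide +kernel

theorem firstFix25 : allR firstFix 13 204800 = true := by decide +kernel

theorem firstFix26 : allR firstFix 13 212992 = true := by decide +kernel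

theorem firstFix27 : allR firstFix 13 221184 = true := by decide +kernel

theorem firstFix28 : allR firstFix 13 229376 = true := by decide +kernel

theorem firstFix29 : allR firstFix 13 237568 = true := by decide +kernel

theorem firstFix30 : allR firstFix 13 245760 = true := by decide +kernel

theorem firstFix31 : allR firstFix 13 253952 = true := by decide +kernel

theorem firstFix32 : allR firstFix 13 262144 = true := by decide +kernel

theorem firstFix33 : allR firstFix 13 270336 = true := by decide +kernel

theorem firstFix34 : allR firstFix 13 278528 = true := by decide +kernel

theorem firstFix35 : allR firstFix 13 286720 = true := by decide +kernel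

theorem firstFix36 : allR firstFix 13 294912 = true := by decide +kernel

theorem firstFix37 : allR firstFix 13 303104 = true := by decide +kernel

theorem firstFix_all : Wide.On firstFix 0 306936 :=
  fun i hi hn => ((((((Wide.On.of_allR firstFix0).append (Wide.On.of_allR firstFix1)).append ((Wide.On.of_allR firstFix2).append (Wide.On.of_allR firstFix3))).append (((Wide.On.of_allR firstFix4).append (Wide.On.of_allR firstFix5)).append ((Wide.On.of_allR firstFix6).append ((Wide.On.of_allR firstFix7).append (Wide.On.of_allR firstFix8))))).append ((((Wide.On.of_allR firstFix9).append (Wide.On.of_allR firstFix10)).append ((Wide.On.of_allR firstFix11).append ((Wide.On.of_allR firstFix12).append (Wide.On.of_allR firstFix13)))).append (((Wide.On.of_allR firstFix14).append (Wide.On.of_allR firstFix15)).append ((Wide.On.of_allR firstFix16).append ((Wide.On.of_allR firstFix17).append (Wide.On.of_allR firstFix18)))))).append (((((Wide.On.of_allR firstFix19).append (Wide.On.of_allR firstFix20)).append ((Wide.On.of_allR firstFix21).append (Wide.On.of_allR firstFix22))).append (((Wide.On.of_allR firstFix23).append (Wide.On.of_allR firstFix24)).append ((Wide.On.of_allR firstFix25).append ((Wide.On.of_allR firstFix26).append (Wide.On.of_allR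 firstFix27))))).append ((((Wide.On.of_allR firstFix28).append (Wide.On.of_allR firstFix29)).append ((Wide.On.of_allR firstFix30).append ((Wide.On.of_allR firstFix31).append (Wide.On.of_allR firstFix32)))).append (((Wide.On.of_allR firstFix33).append (Wide.On.of_allR firstFix34)).append ((Wide.On.of_allR firstFix35).append ((Wide.On.of_allR firstFix36).append (Wide.On.of_allR firstFix37))))))) i hi (by omega)

end

end CfsgLib.Fi24Out
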