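import Cfsg.Agent.CosetEnum.Fi24H.Table

/-! Points fixed by nine generators. -/

set_option autoImplicit false
set_option maxRecDepth 100000
set_option Elab.async false

namespace CfsgLib.Fi24Out

open CfsgLib.CosetEnum CfsgLib.CosetEnum.Fi24H

noncomputable section

/-- Points fixed by nine generators. -/
def nineFix (i : Nat) : Bool :=
  bif Nat.blt i 306936 then (bif Nat.beq (u0 i) i && Nat.beq (u1 i) i && Nat.beq (u2 i) i && Nat.beq (u3 i) i && Nat.beq (u4 i) i && Nat.beq (u5 i) i && Nat.beq (u6 i) i && Nat.beq (u7 i) i && Nat.beq (u8 i) i then (Nat.beq i 0 || Nat.beq i 87475) else true) else true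

theorem nineFix0 : allR nineFix 13 0 = true := by decide +kernel

theorem nineFix1 : allR nineFix 13 8192 = true := by decide +kernel

theorem nineFix2 : allR nineFix 13 16384 = true := by decide +kernel

theorem nineFix3 : allR nineFix 13 24576 = true := by decide +kernel

theorem nineFix4 : allR nineFix 13 32768 = true := by decide +kernel

theorem nineFix5 : allR nineFix 13 40960 = true := by decide +kernel

theorem nineFix6 : allR nineFix 13 49152 = true := by decide +kernel

theorem nineFix7 : allR nineFix 13 57344 = true := by decide +kernel

theorem nineFix8 : allR nineFix 13 65536 = true := by decide +kernel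

theorem nineFix9 : allR nineFix 13 73728 = true := by decide +kernel

theorem nineFix10 : allR nineFix 13 81920 = true := by decide +kernel

theorem nineFix11 : allR nineFix 13 90112 = true := by decide +kernel

theorem nineFix12 : allR nineFix 13 98304 = true := by decide +kernel

theorem nineFix13 : allR nineFix 13 106496 = true := by decide +kernel

theorem nineFix14 : allR nineFix 13 114688 = true := by decide +kernel

theorem nineFix15 : allR nineFix 13 122880 = true := by decide +kernel

theorem nineFix16 : allR nineFix 13 131072 = true := by decide +kernel

theorem nineFix17 : allR nineFix 13 139264 = true := by decide +kernel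

theorem nineFix18 : allR nineFix 13 147456 = true := by decide +kernel

theorem nineFix19 : allR nineFix 13 155648 = true := by decide +kernel

theorem nineFix20 : allR nineFix 13 163840 = true := by decide +kernel

theorem nineFix21 : allR nineFix 13 172032 = true := by decide +kernel

theorem nineFix22 : allR nineFix 13 180224 = true := by decide +kernel

theorem nineFix23 : allR nineFix 13 188416 = true := by decide +kernel

theorem nineFix24 : allR nineFix 13 196608 = true := by decide +kernel

theorem nineFix25 : allR nineFix 13 204800 = true := by decide +kernel

theorem nineFix26 : allR nineFix 13 212992 = true := by decide +kernel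

theorem nineFix27 : allR nineFix 13 221184 = true := by decide +kernel

theorem nineFix28 : allR nineFix 13 229376 = true := by decide +kernel

theorem nineFix29 : allR nineFix 13 237568 = true := by decide +kernel

theorem nineFix30 : allR nineFix 13 245760 = true := by decide +kernel

theorem nineFix31 : allR nineFix 13 253952 = true := by decide +kernel

theorem nineFix32 : allR nineFix 13 262144 = true := by decide +kernel

theorem nineFix33 : allR nineFix 13 270336 = true := by decide +kernel

theorem nineFix34 : allR nineFix 13 278528 = true := by decide +kernel

theorem nineFix35 : allR nineFix 13 286720 = true := by decide +kernel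

theorem nineFix36 : allR nineFix 13 294912 = true := by decide +kernel

theorem nineFix37 : allR nineFix 13 303104 = true := by decide +kernel

theorem nineFix_all : Wide.On nineFix 0 306936 :=
  fun i hi hn => ((((((Wide.On.of_allR nineFix0).append (Wide.On.of_allR nineFix1)).append ((Wide.On.of_allR nineFix2).append (Wide.On.of_allR nineFix3))).append (((Wide.On.of_allR nineFix4).append (Wide.On.of_allR nineFix5)).append ((Wide.On.of_allR nineFix6).append ((Wide.On.of_allR nineFix7).append (Wide.On.of_allR nineFix8))))).append ((((Wide.On.of_allR nineFix9).append (Wide.On.of_allR nineFix10)).append ((Wide.On.of_allR nineFix11).append ((Wide.On.of_allR nineFix12).append (Wide.On.of_allR nineFix13)))).append (((Wide.On.of_allR nineFix14).append (Wide.On.of_allR nineFix15)).append ((Wide.On.of_allR nineFix16).append ((Wide.On.of_allR nineFix17).append (Wide.On.of_allR nineFix18)))))).append (((((Wide.On.of_allR nineFix19).append (Wide.On.of_allR nineFix20)).append ((Wide.On.of_allR nineFix21).append (Wide.On.of_allR nineFix22))).append (((Wide.On.of_allR nineFix23).append (Wide.On.of_allR nineFix24)).append ((Wide.On.of_allR nineFix25).append ((Wide.On.of_allR nineFix26).append (Wide.On.of_allR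 nineFix27))))).append ((((Wide.On.of_allR nineFix28).append (Wide.On.of_allR nineFix29)).append ((Wide.On.of_allR nineFix30).append ((Wide.On.of_allR nineFix31).append (Wide.On.of_allR nineFix32)))).append (((Wide.On.of_allR nineFix33).append (Wide.On.of_allR nineFix34)).append ((Wide.On.of_allR nineFix35).append ((Wide.On.of_allR nineFix36).append (Wide.On.of_allR nineFix37))))))) i hi (by omega)

end

end CfsgLib.Fi24Out
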