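import Cfsg.Agent.CosetEnum.Fi24H.Table

/-! Points fixed by the product of the generators `l` and `a` are fixed by `l`. -/

set_option autoImplicit false
set_option maxRecDepth 100000
set_option Elab.async false

namespace CfsgLib.Fi24Out

open CfsgLib.CosetEnum CfsgLib.CosetEnum.Fi24H

noncomputable section

/-- Points fixed by the product of the generators `l` and `a` are fixed by `l`. -/
def pairFix (i : Nat) : Bool :=
  bif Nat.blt i 306936 then (force (u11 i) fun p => bif Nat.beq (u0 p) i then Nat.beq p i else true) else true

theorem pairFix0 : allR pairFix 13 0 = true := by decide +kernel

theorem pairFix1 : allR pairFix 13 8192 = true := by decide +kernel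

theorem pairFix2 : allR pairFix 13 16384 = true := by decide +kernel

theorem pairFix3 : allR pairFix 13 24576 = true := by decide +kernel

theorem pairFix4 : allR pairFix 13 32768 = true := by decide +kernel

theorem pairFix5 : allR pairFix 13 40960 = true := by decide +kernel

theorem pairFix6 : allR pairFix 13 49152 = true := by decide +kernel

theorem pairFix7 : allR pairFix 13 57344 = true := by decide +kernel

theorem pairFix8 : allR pairFix 13 65536 = true := by decide +kernel

theorem pairFix9 : allR pairFix 13 73728 = true := by decide +kernel

theorem pairFix10 : allR pairFix 13 81920 = true := by decide +kernel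

theorem pairFix11 : allR pairFix 13 90112 = true := by decide +kernel

theorem pairFix12 : allR pairFix 13 98304 = true := by decide +kernel

theorem pairFix13 : allR pairFix 13 106496 = true := by decide +kernel

theorem pairFix14 : allR pairFix 13 114688 = true := by decide +kernel

theorem pairFix15 : allR pairFix 13 122880 = true := by decide +kernel

theorem pairFix16 : allR pairFix 13 131072 = true := by decide +kernel

theorem pairFix17 : allR pairFix 13 139264 = true := by decide +kernel

theorem pairFix18 : allR pairFix 13 147456 = true := by decide +kernel

theorem pairFix19 : allR pairFix 13 155648 = true := by decide +kernel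

theorem pairFix20 : allR pairFix 13 163840 = true := by decide +kernel

theorem pairFix21 : allR pairFix 13 172032 = true := by decide +kernel

theorem pairFix22 : allR pairFix 13 180224 = true := by decide +kernel

theorem pairFix23 : allR pairFix 13 188416 = true := by decide +kernel

theorem pairFix24 : allR pairFix 13 196608 = true := by decide +kernel

theorem pairFix25 : allR pairFix 13 204800 = true := by decide +kernel

theorem pairFix26 : allR pairFix 13 212992 = true := by decide +kernel

theorem pairFix27 : allR pairFix 13 221184 = true := by decide +kernel

theorem pairFix28 : allR pairFix 13 229376 = true := by decide +kernel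

theorem pairFix29 : allR pairFix 13 237568 = true := by decide +kernel

theorem pairFix30 : allR pairFix 13 245760 = true := by decide +kernel

theorem pairFix31 : allR pairFix 13 253952 = true := by decide +kernel

theorem pairFix32 : allR pairFix 13 262144 = true := by decide +kernel

theorem pairFix33 : allR pairFix 13 270336 = true := by decide +kernel

theorem pairFix34 : allR pairFix 13 278528 = true := by decide +kernel

theorem pairFix35 : allR pairFix 13 286720 = true := by decide +kernel

theorem pairFix36 : allR pairFix 13 294912 = true := by decide +kernel

theorem pairFix37 : allR pairFix 13 303104 = true := by decide +kernel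

theorem pairFix_all : Wide.On pairFix 0 306936 :=
  fun i hi hn => ((((((Wide.On.of_allR pairFix0).append (Wide.On.of_allR pairFix1)).append ((Wide.On.of_allR pairFix2).append (Wide.On.of_allR pairFix3))).append (((Wide.On.of_allR pairFix4).append (Wide.On.of_allR pairFix5)).append ((Wide.On.of_allR pairFix6).append ((Wide.On.of_allR pairFix7).append (Wide.On.of_allR pairFix8))))).append ((((Wide.On.of_allR pairFix9).append (Wide.On.of_allR pairFix10)).append ((Wide.On.of_allR pairFix11).append ((Wide.On.of_allR pairFix12).append (Wide.On.of_allR pairFix13)))).append (((Wide.On.of_allR pairFix14).append (Wide.On.of_allR pairFix15)).append ((Wide.On.of_allR pairFix16).append ((Wide.On.of_allR pairFix17).append (Wide.On.of_allR pairFix18)))))).append (((((Wide.On.of_allR pairFix19).append (Wide.On.of_allR pairFix20)).append ((Wide.On.of_allR pairFix21).append (Wide.On.of_allR pairFix22))).append (((Wide.On.of_allR pairFix23).append (Wide.On.of_allR pairFix24)).append ((Wide.On.of_allR pairFix25).append ((Wide.On.of_allR pairFix26).append (Wide.On.of_allR pairFix27))))).append ((((Wide.On.of_allR pairFix28).append (Wide.On.of_allR pairFix29)).append ((Wide.On.of_allR pairFix30).append ((Wide.On.of_allR pairFix31).append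 (Wide.On.of_allR pairFix32)))).append (((Wide.On.of_allR pairFix33).append (Wide.On.of_allR pairFix34)).append ((Wide.On.of_allR pairFix35).append ((Wide.On.of_allR pairFix36).append (Wide.On.of_allR pairFix37))))))) i hi (by omega)

end

end CfsgLib.Fi24Out
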