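import Cfsg.Agent.CosetEnum.Fi24H.Table

/-! Points fixed by products of two adjacent generators. -/

set_option autoImplicit false
set_option maxRecDepth 100000
set_option Elab.async false

namespace CfsgLib.Fi24Out

open CfsgLib.CosetEnum CfsgLib.CosetEnum.Fi24H

noncomputable section

/-- Points fixed by products of two adjacent generators. -/
def secondFix (i : Nat) : Bool :=
  bif Nat.blt i 306936 then (bif Nat.beq (u2 (u1 i)) i && Nat.beq (u3 (u2 i)) i && Nat.beq (u4 (u3 i)) i && Nat.beq (u5 (u4 i)) i && Nat.beq (u6 (u5 i)) i && Nat.beq (u9 (u6 i)) i then (Nat.beq i 0 || Nat.beq i 1 || Nat.beq i 3 || Nat.beq i 360 || Nat.beq i 7032 || Nat.beq i 9424 || Nat.beq i 12423) else true) else true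

theorem secondFix0 : allR secondFix 13 0 = true := by decide +kernel

theorem secondFix1 : allR secondFix 13 8192 = true := by decide +kernel

theorem secondFix2 : allR secondFix 13 16384 = true := by decide +kernel

theorem secondFix3 : allR secondFix 13 24576 = true := by decide +kernel

theorem secondFix4 : allR secondFix 13 32768 = true := by decide +kernel

theorem secondFix5 : allR secondFix 13 40960 = true := by decide +kernel

theorem secondFix6 : allR secondFix 13 49152 = true := by decide +kernel

theorem secondFix7 : allR secondFix 13 57344 = true := by decide +kernel

theorem secondFix8 : allR secondFix 13 65536 = true := by decide +kernel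

theorem secondFix9 : allR secondFix 13 73728 = true := by decide +kernel

theorem secondFix10 : allR secondFix 13 81920 = true := by decide +kernel

theorem secondFix11 : allR secondFix 13 90112 = true := by decide +kernel

theorem secondFix12 : allR secondFix 13 98304 = true := by decide +kernel

theorem secondFix13 : allR secondFix 13 106496 = true := by decide +kernel

theorem secondFix14 : allR secondFix 13 114688 = true := by decide +kernel

theorem secondFix15 : allR secondFix 13 122880 = true := by decide +kernel

theorem secondFix16 : allR secondFix 13 131072 = true := by decide +kernel

theorem secondFix17 : allR secondFix 13 139264 = true := by decide +kernel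

theorem secondFix18 : allR secondFix 13 147456 = true := by decide +kernel

theorem secondFix19 : allR secondFix 13 155648 = true := by decide +kernel

theorem secondFix20 : allR secondFix 13 163840 = true := by decide +kernel

theorem secondFix21 : allR secondFix 13 172032 = true := by decide +kernel

theorem secondFix22 : allR secondFix 13 180224 = true := by decide +kernel

theorem secondFix23 : allR secondFix 13 188416 = true := by decide +kernel

theorem secondFix24 : allR secondFix 13 196608 = true := by decide +kernel

theorem secondFix25 : allR secondFix 13 204800 = true := by decide +kernel

theorem secondFix26 : allR secondFix 13 212992 = true := by decide +kernel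

theorem secondFix27 : allR secondFix 13 221184 = true := by decide +kernel

theorem secondFix28 : allR secondFix 13 229376 = true := by decide +kernel

theorem secondFix29 : allR secondFix 13 237568 = true := by decide +kernel

theorem secondFix30 : allR secondFix 13 245760 = true := by decide +kernel

theorem secondFix31 : allR secondFix 13 253952 = true := by decide +kernel

theorem secondFix32 : allR secondFix 13 262144 = true := by decide +kernel

theorem secondFix33 : allR secondFix 13 270336 = true := by decide +kernel

theorem secondFix34 : allR secondFix 13 278528 = true := by decide +kernel

theorem secondFix35 : allR secondFix 13 286720 = true := by decide +kernel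

theorem secondFix36 : allR secondFix 13 294912 = true := by decide +kernel

theorem secondFix37 : allR secondFix 13 303104 = true := by decide +kernel

theorem secondFix_all : Wide.On secondFix 0 306936 :=
  fun i hi hn => ((((((Wide.On.of_allR secondFix0).append (Wide.On.of_allR secondFix1)).append ((Wide.On.of_allR secondFix2).append (Wide.On.of_allR secondFix3))).append (((Wide.On.of_allR secondFix4).append (Wide.On.of_allR secondFix5)).append ((Wide.On.of_allR secondFix6).append ((Wide.On.of_allR secondFix7).append (Wide.On.of_allR secondFix8))))).append ((((Wide.On.of_allR secondFix9).append (Wide.On.of_allR secondFix10)).append ((Wide.On.of_allR secondFix11).append ((Wide.On.of_allR secondFix12).append (Wide.On.of_allR secondFix13)))).append (((Wide.On.of_allR secondFix14).append (Wide.On.of_allR secondFix15)).append ((Wide.On.of_allR secondFix16).append ((Wide.On.of_allR secondFix17).append (Wide.On.of_allR secondFix18)))))).append (((((Wide.On.of_allR secondFix19).append (Wide.On.of_allR secondFix20)).append ((Wide.On.of_allR secondFix21).append (Wide.On.of_allR secondFix22))).append (((Wide.On.of_allR secondFix23).append (Wide.On.of_allR secondFix24)).append ((Wide.On.of_allR secondFix25).append ((Wide.On.of_allR secondFix26).append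 (Wide.On.of_allR secondFix27))))).append ((((Wide.On.of_allR secondFix28).append (Wide.On.of_allR secondFix29)).append ((Wide.On.of_allR secondFix30).append ((Wide.On.of_allR secondFix31).append (Wide.On.of_allR secondFix32)))).append (((Wide.On.of_allR secondFix33).append (Wide.On.of_allR secondFix34)).append ((Wide.On.of_allR secondFix35).append ((Wide.On.of_allR secondFix36).append (Wide.On.of_allR secondFix37))))))) i hi (by omega)

end

end CfsgLib.Fi24Out
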