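import Cfsg.Agent.Fi24Out.Model
import Cfsg.Agent.Fi22Three.Bound
import Cfsg.Agent.Fi24Out.ScanPair
import Cfsg.Agent.Fi24Out.ScanNine
import Cfsg.Agent.Fi24Out.ScanEleven
import Cfsg.Agent.Fi24Out.ScanFirst
import Cfsg.Agent.Fi24Out.ScanSecond

/-! Certificates for the automorphisms of the derived group of `Fi₂₄`: words, candidate pairs and a chain in `Fi₂₂`. -/

set_option autoImplicit false
set_option maxRecDepth 100000
set_option Elab.async false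

namespace CfsgLib.Fi24Out

open CfsgLib.CosetEnum CfsgLib.CosetEnum.Fi24H

noncomputable section

/-- The second transposition as the image of the centre of a subgroup `Fi₂₃`. -/
def eW : List ℕ := (Fi23.zWord.map Fi23.lm).map Fi24.m23

/-- A path to it. -/
def ePath : List ℕ := [10, 0, 1, 2, 3, 4, 5, 6, 7, 3, 2, 4, 3, 5, 4, 7, 3, 2, 9, 6, 5, 4, 3, 7, 11, 10, 0, 1, 2, 3, 4, 5, 6, 9]

/-- A word for an element of order eleven in nine generators. -/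
def xW : List ℕ := [3, 2, 4, 3, 5, 4, 3, 1, 7, 2, 3, 4, 5, 4, 0, 1, 8, 7, 5, 6]

/-- A path to the third transposition fixed by it. -/
def fPath : List ℕ := [10, 0, 1, 2, 3, 4, 5, 6, 7, 3, 2, 1, 0, 4, 3, 5, 4, 8, 7, 3, 2, 1, 4, 3, 2, 5, 4, 7, 3, 2, 1, 4, 8, 7, 3, 10]

/-- An element commuting with it and permuting the three transpositions. -/
def cyW : List ℕ := [7, 8, 3, 7, 2, 3, 1, 2, 0, 1, 0, 1, 0, 2, 1, 3, 2, 7, 3, 8, 7, 5, 6, 4, 5, 3, 4, 2, 3, 1, 2, 0, 1, 0, 1, 0, 2, 1, 3, 2, 4, 3, 5, 4, 6, 5, 4, 3, 7, 2, 3, 4, 1, 2, 3, 7, 5, 4, 3, 2, 1, 0, 1, 2, 3, 4, 5, 7, 3, 2, 1, 4, 3, 2, 7, 3, 4, 3, 4, 2, 3, 1, 2, 0, 1, 0, 1, 0, 2, 1, 3, 2, 4, 3, 7, 8, 3, 4, 5, 2, 3, 4, 1, 2, 3, 7, 6, 5, 4, 3, 2, 1, 0, 1, 2, 3, 4, 5, 6, 7, 3, 2, 1, 4, 3, 2, 5, 4, 3, 8, 7, 2, 3, 4, 1, 2, 3, 7, 6, 5, 4, 3, 2, 1, 0, 1, 2, 3, 4, 5, 6, 7, 3, 2, 1, 4, 3, 2, 8, 4, 5, 2, 3, 4, 1, 2, 3, 7, 6, 5, 4, 3, 2, 1, 0,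 1, 2, 3, 4, 5, 6, 7, 3, 2, 1, 4, 3, 2, 5, 4, 8, 3, 4, 2, 3, 7, 8, 2, 3, 4, 1, 2, 3, 7, 5, 4, 3, 2, 1, 0, 1, 2, 3, 4, 5, 7, 3, 2, 1, 4, 3, 2, 8, 7, 3, 2, 4, 3, 3, 7, 4, 5, 2, 3, 4, 0, 1, 2, 3, 7, 8, 5, 2, 3, 4, 1, 2, 3, 7, 6, 5, 4, 3, 2, 1, 0, 1, 2, 3, 4, 5, 6, 7, 3, 2, 1, 4, 3, 2, 5, 8, 7, 3, 2, 1, 0, 4, 3, 2, 5, 4, 7, 3, 0, 2, 3, 2, 7, 3, 4, 8, 7, 3, 2, 1, 0, 4, 3, 2, 5, 4, 3, 7, 3, 2, 1, 8, 9, 6, 5, 4, 3, 2, 1, 0, 7, 3, 2, 1, 4, 3, 2, 5, 4, 3, 6, 5, 4, 9, 6, 5, 10, 0, 1, 2, 3, 4, 5, 6, 7, 3, 2, 1, 0, 4, 3, 5, 4, 8, 7, 3, 2, 1, 4, 3, 2, 5, 4, 7, 3, 2, 1, 4, 8, 7, 3, 10]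

/-- Candidates and paths. -/
def paths : List (ℕ × List ℕ) := [(0, []), (1, [10]), (3, [10, 11]), (360, [10, 0, 1, 2, 3, 7, 8, 11, 10, 0, 1, 2, 3, 7]), (1226, [10, 0, 1, 2, 3, 4, 5, 6, 9, 11, 10, 0, 1, 2, 3, 4, 5, 6]), (7032, [10, 0, 1, 2, 3, 4, 5, 6, 7, 3, 2, 4, 3, 5, 4, 7, 3, 2, 9, 6, 5, 4, 3, 7]), (9424, [10, 0, 1, 2, 3, 4, 5, 6, 7, 3, 2, 4, 3, 5, 4, 7, 3, 2, 9, 6, 5, 4, 3, 7, 11]), (12423, [10, 0, 1, 2, 3, 4, 5, 6, 7, 3, 2, 4, 3, 5, 4, 7, 3, 2, 9, 6, 5, 4, 3, 7, 11, 10]), (71050, [10, 0, 1, 2, 3, 4, 5, 6, 7, 3, 2, 4, 3, 5, 4, 7, 3, 2, 9, 6, 5, 4, 3, 7, 11, 10, 0, 1, 2, 3, 4, 5, 6]), (87475, [10, 0, 1, 2, 3, 4, 5, 6, 7, 3, 2, 4, 3, 5, 4, 7, 3, 2, 9, 6, 5, 4, 3, 7, 11, 10, 0, 1, 2, 3, 4, 5, 6, 9]), (111197, [10, 0, 1, 2, 3, 4, 5, 6, 7, 3, 2, 1, 0, 4, 3, 5, 4, 8, 7, 3, 2, 1, 4, 3, 2, 5, 4, 7, 3, 2, 1, 4, 8, 7, 3, 10])]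

/-- The word of a candidate transposition. -/
def dwc (p : ℕ) : List ℕ :=
  (((paths.find? fun e => Nat.beq e.1 p).map Prod.snd).getD []).reverse ++
    11 :: ((paths.find? fun e => Nat.beq e.1 p).map Prod.snd).getD []

/-- The first candidates. -/
def cs1 : List ℕ := [0, 1226, 71050, 87475]

/-- The second candidates. -/
def cs2 : List ℕ := [0, 1, 3, 360, 7032, 9424, 12423]

/-- The words commuting with an image of a product of two generators and the relations. -/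
def pairOK (S : List ℕ) (rels : List (List ℕ)) (p q : ℕ) : Bool :=
  agree (dwc p ++ dwc q) (dwc q ++ dwc p) && (S.all fun x => S.all fun y =>
    agree (dwc p ++ dwc q ++ [x, y]) ([x, y] ++ (dwc p ++ dwc q))) &&
  rels.all fun r => agree ((List.replicate 3 (dwc p ++ dwc q ++ r)).flatten) []

theorem paths_ok : paths.all (fun e => okw e.2 && Nat.beq (walkT e.2 0) e.1 && okw (dwc e.1) &&
    decide (dwc e.1 = e.2.reverse ++ 11 :: e.2)) = true := by decide +kernel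

theorem cs_paths : (cs1 ++ cs2 ++ [111197]).all (fun p => (paths.map Prod.fst).contains p) = true := by decide +kernel

theorem eW_ok : okw eW = true ∧ okw ePath = true ∧ walkT ePath 0 = 87475 ∧
    agree eW (ePath.reverse ++ 11 :: ePath) = true ∧ walkT eW 0 = 0 := by decide +kernel

theorem zW_nine : agree [11] ((List.replicate 9 [0, 1, 2, 3, 4, 5, 7]).flatten) = true ∧
    agree eW ((List.replicate 9 [1, 2, 3, 4, 5, 6, 7]).flatten) = true := by decide +kernel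

theorem xW_ok : okw xW = true ∧ xW.length = 20 ∧ agree ((List.replicate 11 xW).flatten) [] = true ∧
    agree xW [] = false ∧ walkT xW 0 = 0 ∧ walkT xW 87475 = 87475 ∧ walkT xW 111197 = 111197 := by decide +kernel

theorem fPath_ok : okw fPath = true ∧ walkT fPath 0 = 111197 ∧ walkT [11] 111197 = 111197 ∧
    walkT eW 111197 = 111197 := by decide +kernel

theorem cyW_ok : okw cyW = true ∧ agree (cyW ++ xW) (xW ++ cyW) = true ∧
    walkT cyW 0 = 111197 ∧ walkT cyW 111197 = 87475 ∧ walkT cyW 87475 = 0 := by decide +kernel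

theorem firstPairs : cs1.all (fun p => cs1.all fun q => Nat.beq p q || !(pairOK [0, 1, 2, 3, 4, 5, 7, 8] [[6, 11]] p q) ||
    agree (dwc p ++ dwc q) [9, 11] || agree (dwc p ++ dwc q) (eW ++ [9, 11] ++ eW.reverse)) = true := by decide +kernel

theorem secondPairs : cs2.all (fun p => cs2.all fun q => Nat.beq p q || !(pairOK [1, 2, 3, 4, 5, 6, 9] [[8, 0], [8, 11]] p q) ||
    agree (dwc p ++ dwc q) [10, 8] || agree (dwc p ++ dwc q) [11, 10, 8, 11]) = true := by decide +kernel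

/-- Words in `Fi₂₂` for a transposition and five powers of the element of order eleven. -/
def x22 : List (List ℕ) := [[3466], [92, 154, 120, 43, 89, 27, 65, 197, 1, 20], [473, 62, 676, 42, 91, 6, 1185, 1, 87], [154, 120, 66, 424, 42, 1169, 6, 2432, 711], [92, 88, 545, 308, 370, 44, 719, 18, 555, 1953], [92, 472, 545, 44, 571, 0, 1921, 2574]]

/-- One level suffices. -/
def x22Lv : List Fi22Three.Lvl := [⟨4, [], [], true, [4, 44, 47, 83, 99, 551, 1972, 2029, 2095, 2183, 2280, 2527, 2907, 2982, 3039, 3064, 3141, 3209, 3257, 3432, 3465, 3504]⟩]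

/-- The closing derivations. -/
def x22Fin : List (ℕ × ℕ) := [(47, 3039), (1972, 551), (2090, 2337), (3039, 4), (2321, 47), (44, 4), (21, 2029), (748, 593), (3504, 4), (3466, 3039), (47, 3432), (2907, 3089), (3039, 44), (3432, 4), (3494, 3392), (2029, 3039), (3485, 3418), (2029, 4), (3432, 551), (1437, 468), (3039, 3504), (3432, 3504), (3082, 428), (2206, 2460), (99, 3504), (1734, 2029), (2576, 2321), (2029, 3504), (2911, 3392), (2321, 3392), (1364, 1271), (1972, 3432), (593, 734), (551, 99), (3494, 921), (1972, 3504), (3319, 3149)]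

theorem x22_part0 : Fi22Three.lvlPart x22 [] (x22Lv.getD 0 ⟨0, [], [], false, []⟩) 0 = true := by decide +kernel

theorem x22_part1 : Fi22Three.lvlPart x22 [] (x22Lv.getD 0 ⟨0, [], [], false, []⟩) 1024 = true := by decide +kernel

theorem x22_part2 : Fi22Three.lvlPart x22 [] (x22Lv.getD 0 ⟨0, [], [], false, []⟩) 2048 = true := by decide +kernel

theorem x22_part3 : Fi22Three.lvlPart x22 [] (x22Lv.getD 0 ⟨0, [], [], false, []⟩) 3072 = true := by decide +kernel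

theorem x22_final : Fi22Out.gpt.all (Fi22Out.has (Fi22Out.close x22Fin (Fi22Three.seeds x22 [4]))) = true := by
  decide +kernel

theorem x22_ok : x22.all Fi22Three.ok = true ∧ Fi22Three.chainOK x22 [] x22Lv x22Fin = true ∧
    Fi22Three.bnd x22Lv = 22 :=
  ⟨by decide +kernel, by
    simp only [Fi22Three.chainOK, x22Lv, List.nil_append, Bool.and_eq_true]
    exact ⟨Fi22Three.lvlOK_of_parts (by decide +kernel) (by decide +kernel) x22_part0 x22_part1 x22_part2 x22_part3,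
      x22_final⟩, by decide +kernel⟩

theorem x22_words : (List.range 6).all (fun j => Fi22Three.agree (x22.getD j [])
    ((List.replicate j (xW.map fun k => Fi22Out.gpt.getD k 0)).flatten) || Nat.beq j 0) = true := by decide +kernel

theorem f22_word : Fi22Three.agree (x22.getD 0 []) [3466] = true ∧
    agree (fPath.reverse ++ 11 :: fPath) (Fi22Out.dw 3466) = true := by decide +kernel

end

end CfsgLib.Fi24Out
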