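import Cfsg.Agent.Fi24Out.Local

/-!
An involution of the derived group of `Cfsg.Spor.Fi24` commuting with an element of order eleven is
a product of two commuting transpositions.
-/

set_option autoImplicit false
set_option maxRecDepth 100000

namespace CfsgLib.Fi24Out

open CfsgLib.CosetEnum

noncomputable section

/-- The element of order eleven. -/
def xG : G := el xW

/-- The third fixed point. -/
def fP : Fin P := ⟨111197, show 111197 < 306936 by norm_num⟩

/-- Its transposition in `Fi₂₂`. -/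
def fbar : Fi22Out.G := Fi22Three.el [3466]

/-- The element of order eleven in `Fi₂₂`. -/
def xbar : Fi22Out.G := Fi22Three.el (xW.map fun k => Fi22Out.gpt.getD k 0)

theorem xW_nine : ∀ x ∈ xW, x < 9 := by unfold xW; decide

theorem okw_of_lt {w : List ℕ} (h : ∀ x ∈ w, x < 12) : okw w = true := by
  simpa [okw, List.all_eq_true] using h

theorem T_zero : Fi24H.T 0 = Fi24H.u0 := funext fun i => Fi24H.u0_eq i

theorem T_one : Fi24H.T 1 = Fi24H.u1 := funext fun i => Fi24H.u1_eq i

theorem T_two : Fi24H.T 2 = Fi24H.u2 := funext fun i => Fi24H.u2_eq i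

theorem T_three : Fi24H.T 3 = Fi24H.u3 := funext fun i => Fi24H.u3_eq i

theorem T_four : Fi24H.T 4 = Fi24H.u4 := funext fun i => Fi24H.u4_eq i

theorem T_five : Fi24H.T 5 = Fi24H.u5 := funext fun i => Fi24H.u5_eq i

theorem T_six : Fi24H.T 6 = Fi24H.u6 := funext fun i => Fi24H.u6_eq i

theorem T_seven : Fi24H.T 7 = Fi24H.u7 := funext fun i => Fi24H.u7_eq i

theorem T_eight : Fi24H.T 8 = Fi24H.u8 := funext fun i => Fi24H.u8_eq i

theorem el_pow (w : List ℕ) : ∀ n : ℕ, el (List.replicate n w).flatten = el w ^ n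
  | 0 => by rw [List.replicate_zero, List.flatten_nil, el_nil, pow_zero]
  | n + 1 => by rw [List.replicate_succ, List.flatten_cons, el_append, el_pow w n, pow_succ']

theorem el22_pow (w : List ℕ) : ∀ n : ℕ, Fi22Three.el (List.replicate n w).flatten = Fi22Three.el w ^ n
  | 0 => by rw [List.replicate_zero, List.flatten_nil, Fi22Three.el_nil, pow_zero]
  | n + 1 => by rw [List.replicate_succ, List.flatten_cons, Fi22Three.el_append, el22_pow w n, pow_succ']

theorem el22_word (S3 : Fi22Out.Act) : ∀ w : List ℕ, (∀ x ∈ w, x < 9) →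
    Fi22Three.el (w.map fun k => Fi22Out.gpt.getD k 0) = prodw Fi22.setup.g w
  | [], _ => by rw [List.map_nil, Fi22Three.el_nil, prodw_nil]
  | a :: w, h => by
    rw [List.map_cons, Fi22Three.el_cons, prodw_cons, el22_word S3 w fun x hx => h x (List.mem_cons_of_mem _ hx),
      ← S3.d_gpF (h a List.mem_cons_self)]
    congr 2
    exact Fin.ext (Fi22Three.pt_val (Fi22Out.getD_gpt_lt a))

theorem el22_single (p : ℕ) : Fi22Three.el [p] = Fi22Out.d (Fi22Three.pt p) := by
  rw [Fi22Three.el_cons, Fi22Three.el_nil, mul_one]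

theorem fbar_sq : fbar * fbar = 1 := by rw [fbar, el22_single, Fi22Out.d_mul_self]

theorem fbar_word : fbar = prodw Fi22.setup.g (Fi22Out.dw 3466) := by
  rw [fbar, el22_single, Fi22Out.d, Fi22Three.pt_val (show 3466 < 3510 by norm_num)]

theorem x22_cases (S3 : Fi22Out.Act) : ∀ x ∈ x22, Fi22Three.el x = fbar ∨ ∃ j : ℕ, Fi22Three.el x = xbar ^ j := by
  intro x hx
  obtain ⟨j, hj, rfl⟩ := List.getElem_of_mem hx
  have h := List.all_eq_true.mp x22_words j (List.mem_range.mpr (show j < 6 from hj))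
  rw [List.getD_eq_getElem _ _ hj, Bool.or_eq_true, Nat.beq_eq] at h
  rcases h with h | h
  · have hmem : x22[j] ∈ x22 := List.getElem_mem hj
    refine Or.inr ⟨j, ?_⟩
    rw [xbar, ← el22_pow]
    refine S3.eq_of_agree (List.all_eq_true.mp x22_ok.1 _ hmem) ?_ h
    simp only [Fi22Three.ok, List.all_eq_true, List.mem_flatten, List.mem_replicate, List.mem_map]
    rintro p ⟨l, ⟨-, rfl⟩, hp⟩
    obtain ⟨k, -, rfl⟩ := List.mem_map.1 hp
    exact Nat.blt_eq.mpr (Fi22Out.getD_gpt_lt k)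
  · subst h
    exact Or.inl rfl

namespace Act

variable (S : Act) (R : Rho)
include S

theorem xG_C2 : xG ∈ C2 := S.C2_word xW_nine

theorem xG_N : xG ∈ NG := by
  rw [S.mem_N, xG, S.ε_el xW (fun x hx => by have := xW_nine x hx; omega), xW_ok.2.1]
  decide

/-- The element of order eleven in the part centralising the pair. -/
def xL : ↥LN := ⟨⟨xG, S.xG_N⟩, S.xG_C2⟩

theorem ρ_xG (h : xG ∈ C2) : R.ρ ⟨xG, h⟩ = xbar := by
  obtain ⟨S3⟩ := Fi22Out.exists_act
  rw [xbar, el22_word S3 _ xW_nine]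
  exact S.ρ_word R xW xW_nine h

theorem xG_pow : xG ^ 11 = 1 := by
  rw [xG, ← el_pow, ← el_nil]
  refine S.eq_of_agree ?_ rfl xW_ok.2.2.1
  refine okw_of_lt fun x hx => ?_
  simp only [List.mem_flatten, List.mem_replicate] at hx
  obtain ⟨l, ⟨-, rfl⟩, hl⟩ := hx
  have := xW_nine x hl
  omega

theorem agree_of_eq {L M : List ℕ} (hL : okw L = true) (hM : okw M = true) (h : el L = el M) :
    agree L M = true := by
  refine List.all_eq_true.mpr fun k hk => Nat.beq_eq.mpr ?_
  have hlt : k < 306936 := by simpa using List.all_eq_true.mp g12_lt k hk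
  have h1 := S.phi_el hL ⟨k, hlt⟩
  rw [h, S.phi_el hM] at h1
  exact h1.symm

theorem xG_ne_one : xG ≠ 1 := by
  intro h
  have h1 := S.agree_of_eq xW_ok.1 (show okw [] = true from rfl) (h.trans el_nil.symm)
  rw [xW_ok.2.2.2.1] at h1
  exact Bool.noConfusion h1

theorem xG_fix : S.φ xG 0 = 0 ∧ S.φ xG eP = eP ∧ S.φ xG fP = fP := by
  obtain ⟨h1, -, -, -, h2, h3, h4⟩ := xW_ok
  exact ⟨(S.fix_iff h1 _).2 h2, (S.fix_iff h1 _).2 h3, (S.fix_iff h1 _).2 h4⟩

/-- The element of order eleven fixes three points. -/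
theorem fixed_three {p : Fin P} (h : S.φ xG p = p) : p = 0 ∨ p = fP ∨ p = eP := by
  rw [xG, S.fix_iff xW_ok.1] at h
  simp only [Fi24H.walkT, xW, List.foldl_cons, List.foldl_nil, T_zero, T_one, T_two, T_three, T_four, T_five,
    T_six, T_seven, T_eight] at h
  have hs := elevenFix_all p.val (Nat.zero_le _) p.2
  unfold elevenFix at hs
  simp only [force_eq, h, Nat.beq_refl, show Nat.blt p.val 306936 = true from Nat.blt_eq.mpr p.2, cond_true,
    Bool.or_eq_true, Nat.beq_eq] at hs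
  rcases hs with (h | h) | h
  · exact Or.inl (Fin.ext h)
  · exact Or.inr (Or.inl (Fin.ext h))
  · exact Or.inr (Or.inr (Fin.ext h))

theorem dT_fP : S.dT fP = el (Fi22Out.dw 3466) := by
  obtain ⟨h1, h2, -, -⟩ := fPath_ok
  have hd : okw (Fi22Out.dw 3466) = true :=
    okw_of_lt fun x hx => by have := Fi22Out.dw_lt (show 3466 < 3510 by norm_num) x hx; omega
  have h := S.dT_word h1
  rw [h2, show fp 111197 = fP from Fin.ext (fp_val (by norm_num))] at h
  rw [h]
  refine S.eq_of_agree ?_ hd f22_word.2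
  refine okw_append.2 ⟨by simpa [okw] using h1, by simpa [okw] using h1⟩

theorem dT_fP_C2 : S.dT fP ∈ C2 := by
  rw [S.dT_fP]; exact S.C2_word (Fi22Out.dw_lt (show 3466 < 3510 by norm_num))

theorem ρ_fP (h : S.dT fP ∈ C2) : R.ρ ⟨S.dT fP, h⟩ = fbar := by
  rw [fbar_word, ← S.ρ_word R (Fi22Out.dw 3466) (Fi22Out.dw_lt (by norm_num)) (S.dT_fP ▸ h)]
  exact congrArg R.ρ (Subtype.ext S.dT_fP)

theorem fP_com : S.φ (S.dT 0) fP = fP ∧ S.φ (S.dT eP) fP = fP := by
  obtain ⟨-, -, h3, h4⟩ := fPath_ok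
  refine ⟨?_, ?_⟩
  · rw [S.dT_zero]; show S.φ (Fi24.setup.g 11) fP = fP; rw [← el_single 11, S.fix_iff (by decide)]; exact h3
  · rw [S.dT_eP, eG, S.fix_iff eW_ok.1]; exact h4

theorem fP_ne : fP ≠ (0 : Fin P) ∧ fP ≠ eP :=
  ⟨fun h => absurd (congrArg Fin.val h) (by simp [fP]), fun h => absurd (congrArg Fin.val h) (by simp [fP, eP])⟩

include R in
theorem xbar_order : orderOf xbar = 11 := by
  haveI : _root_.Fact (Nat.Prime 11) := ⟨by norm_num⟩
  refine orderOf_eq_prime ?_ fun h => ?_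
  · rw [← S.ρ_xG R S.xG_C2, ← map_pow, show (⟨xG, S.xG_C2⟩ : ↥C2) ^ 11 = 1 from Subtype.ext S.xG_pow, map_one]
  · rw [← S.ρ_xG R S.xG_C2] at h
    have hsq : xG * xG = 1 := by
      rcases R.ker _ h with e | e | e | e <;> rw [show xG = _ from e]
      · exact one_mul 1
      · exact Fi24.sq_g 11
      · rw [← S.dT_eP]; exact S.dT_mul_self eP
      · exact S.zeG_sq
    refine S.xG_ne_one ?_
    have h11 := S.xG_pow
    rwa [show (11 : ℕ) = 2 * 5 + 1 from rfl, pow_succ, pow_mul, pow_two, hsq, one_pow, one_mul] at h11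

include R in
theorem fbar_ne_one : fbar ≠ 1 := by
  intro h
  rw [← S.ρ_fP R S.dT_fP_C2] at h
  have hε := S.ε_dT fP
  rcases R.ker _ h with e | e | e | e
  · rw [show S.dT fP = 1 from e, map_one] at hε
    exact absurd hε (by decide)
  · exact S.fP_ne.1 (S.d_inj ((show S.dT fP = zG from e).trans S.dT_zero.symm))
  · exact S.fP_ne.2 (S.d_inj ((show S.dT fP = eG from e).trans S.dT_eP.symm))
  · rw [show S.dT fP = zeG from e, (S.mem_N _).1 S.zeG_N] at hε
    exact absurd hε (by decide)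

include R in
theorem fbar_comm : Commute fbar xbar := by
  rw [← S.ρ_fP R S.dT_fP_C2, ← S.ρ_xG R S.xG_C2]
  exact (show Commute (⟨_, S.dT_fP_C2⟩ : ↥C2) ⟨_, S.xG_C2⟩ from
    Subtype.ext ((S.commute_iff _ _).2 S.xG_fix.2.2).symm.eq).map R.ρ

/-- The products of the two elements of `Fi₂₂`. -/
def fx (t : Fin 2 × Fin 11) : Fi22Out.G := fbar ^ (t.1 : ℕ) * xbar ^ (t.2 : ℕ)

include R in
theorem fx_injective : Function.Injective fx := by
  have hc := S.fbar_comm R
  have hsq : ∀ t, fx t ^ 2 = xbar ^ (2 * (t.2 : ℕ)) := fun t => by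
    rw [fx, (hc.pow_pow _ _).mul_pow, ← pow_mul, ← pow_mul, mul_comm (t.1 : ℕ), pow_mul, pow_two fbar, fbar_sq,
      one_pow, one_mul, mul_comm]
  rintro ⟨a, b⟩ ⟨c, d⟩ h
  have h2 := congrArg (fun v => v ^ 2) h
  simp only [hsq, pow_inj_mod, S.xbar_order R] at h2
  have hbd : b = d := Fin.ext (by omega)
  subst hbd
  have h3 : fbar ^ (a : ℕ) = fbar ^ (c : ℕ) := mul_right_cancel h
  have hne := S.fbar_ne_one R
  fin_cases a <;> fin_cases c <;> first | rfl | exact absurd (by simpa using h3) hne | exact absurd (by simpa using h3.symm) hne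

include R in
theorem fx_fix (t : Fin 2 × Fin 11) (S3 : Fi22Out.Act) : ∀ x ∈ x22, fx t * Fi22Three.el x = Fi22Three.el x * fx t := by
  intro x hx
  have hc := S.fbar_comm R
  rcases x22_cases S3 x hx with h | ⟨j, h⟩ <;> rw [h]
  · exact (((Commute.refl fbar).pow_left _).mul_left (hc.symm.pow_left _)).eq
  · exact (((hc.pow_left _).mul_left ((Commute.refl xbar).pow_left _)).pow_right j).eq

include R in
/-- An element of `Fi₂₂` of square one commuting with both is trivial or the transposition. -/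
theorem cent_fx {u : Fi22Out.G} (hu : u * u = 1) (hf : Commute u fbar) (hx : Commute u xbar) :
    u = 1 ∨ u = fbar := by
  haveI := Fi22.finite_grp
  obtain ⟨S3⟩ := Fi22Out.exists_act
  have hle := S3.card_cent_le x22_ok.1 x22_ok.2.1
  rw [x22_ok.2.2] at hle
  let ι : Fin 2 × Fin 11 → {g : Fi22Out.G // ∀ x ∈ x22, g * Fi22Three.el x = Fi22Three.el x * g} :=
    fun t => ⟨fx t, S.fx_fix R t S3⟩
  have hinj : Function.Injective ι := fun a b e => S.fx_injective R (congrArg Subtype.val e)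
  have hb := hinj.bijective_of_nat_card_le (hle.trans (by simp))
  obtain ⟨⟨a, b⟩, ht⟩ := hb.2 ⟨u, fun x hx' => by
    rcases x22_cases S3 x hx' with h | ⟨j, h⟩ <;> rw [h]
    exacts [hf.eq, (hx.pow_right j).eq]⟩
  have he : fx (a, b) = u := congrArg Subtype.val ht
  have hc := S.fbar_comm R
  rw [← he] at hu
  rw [fx, ((hc.pow_pow _ _).symm).mul_mul_mul_comm, ← pow_add, ← pow_add, ← two_mul, pow_mul, pow_two fbar, fbar_sq,
    one_pow, one_mul, ← pow_zero xbar, pow_inj_mod, S.xbar_order R] at hu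
  have hb0 : (b : ℕ) = 0 := by have := b.2; dsimp only at hu; omega
  rw [← he, fx, hb0, pow_zero, mul_one]
  fin_cases a
  · exact Or.inl (pow_zero _)
  · exact Or.inr (pow_one _)

include R in
/-- No outer automorphism of `Fi₂₂` fixes both. -/
theorem inn_of_fix (q : MulAut Fi22Out.G) (hf : q fbar = fbar) (hx : q xbar = xbar) : q ∈ Cfsg.Inn Fi22Out.G := by
  by_contra hq
  haveI := Fi22.finite_grp
  obtain ⟨S3⟩ := Fi22Out.exists_act
  let ι : Option (Fin 2 × Fin 11) → MulAut Fi22Out.G := fun o => o.elim q fun t => MulAut.conj (fx t)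
  have hinj : Function.Injective ι := by
    rintro (_ | s) (_ | t) e
    · rfl
    · exact absurd ⟨fx t, e.symm⟩ hq
    · exact absurd ⟨fx s, e⟩ hq
    · exact congrArg some (S.fx_injective R (S3.conj_injective e))
  have h := S3.card_aut_le x22_ok.1 x22_ok.2.1 ι hinj (by
    rintro (_ | t) x hx'
    · show q (Fi22Three.el x) = Fi22Three.el x
      rcases x22_cases S3 x hx' with h | ⟨j, h⟩ <;> rw [h]
      exacts [hf, by rw [map_pow, hx]]
    · show MulAut.conj (fx t) (Fi22Three.el x) = Fi22Three.el x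
      rw [MulAut.conj_apply, S.fx_fix R t S3 x hx', mul_inv_cancel_right])
  rw [x22_ok.2.2] at h
  simp at h

include R in
/-- An involution fixing the three points is one of the three products. -/
theorem eleven_fixed {t : G} (ht : t ∈ NG) (ht2 : t * t = 1) (ht1 : t ≠ 1) (hX : Commute t xG)
    (h0 : S.φ t 0 = 0) (he : S.φ t eP = eP) (hf : S.φ t fP = fP) :
    ∃ y ∈ NG, y * zeG * y⁻¹ = t := by
  have hC : t ∈ C2 := S.mem_C2.2 ⟨h0, he⟩
  set u : Fi22Out.G := R.ρ ⟨t, hC⟩ with hu
  have hu2 : u * u = 1 := by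
    rw [hu, ← map_mul, show (⟨t, hC⟩ : ↥C2) * ⟨t, hC⟩ = 1 from Subtype.ext ht2, map_one]
  have hux : Commute u xbar := by
    rw [← S.ρ_xG R S.xG_C2, hu]
    exact (show Commute (⟨t, hC⟩ : ↥C2) ⟨_, S.xG_C2⟩ from Subtype.ext hX.eq).map R.ρ
  have huf : Commute u fbar := by
    rw [← S.ρ_fP R S.dT_fP_C2, hu]
    exact (show Commute (⟨t, hC⟩ : ↥C2) ⟨_, S.dT_fP_C2⟩ from Subtype.ext ((S.commute_iff _ _).2 hf).eq).map R.ρ
  have hεt := (S.mem_N t).1 ht
  have hpair : ∀ p q : Fin P, p ≠ q → S.φ (S.dT p) q = q → t = S.dT p * S.dT q →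
      ∃ y ∈ NG, y * zeG * y⁻¹ = t := fun p q hne hc e => e ▸ S.exists_conj_pair hne hc
  have hεf := S.ε_dT fP
  rcases S.cent_fx R hu2 huf hux with h | h
  · rcases R.ker _ h with e | e | e | e
    · exact absurd e ht1
    · rw [show t = zG from e, S.ε_g 11 (by norm_num)] at hεt
      exact absurd hεt (by decide)
    · rw [show t = eG from e, S.ε_eG] at hεt
      exact absurd hεt (by decide)
    · exact hpair 0 eP eP_ne_zero.symm S.base_com ((show t = zeG from e).trans S.zeG_eq)
  · rw [← S.ρ_fP R S.dT_fP_C2, hu] at h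
    have hk : R.ρ ((⟨S.dT fP, S.dT_fP_C2⟩ : ↥C2)⁻¹ * ⟨t, hC⟩) = 1 := by rw [map_mul, map_inv, h, inv_mul_cancel]
    rcases R.ker _ hk with e | e | e | e <;> have e' := eq_mul_of_inv_mul_eq (show (S.dT fP)⁻¹ * t = _ from e)
    · rw [e', mul_one, hεf] at hεt
      exact absurd hεt (by decide)
    · exact hpair fP 0 S.fP_ne.1 (S.com_symm S.fP_com.1) (by rw [S.dT_zero]; exact e')
    · exact hpair fP eP S.fP_ne.2 (S.com_symm S.fP_com.2) (by rw [S.dT_eP]; exact e')
    · rw [e', map_mul, hεf, (S.mem_N _).1 S.zeG_N] at hεt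
      exact absurd hεt (by decide)

include R in
/-- No such involution interchanges the first two points and fixes the third. -/
theorem eleven_swap {t : G} (hX : Commute t xG)
    (h0 : S.φ t 0 = eP) (he : S.φ t eP = 0) (hf : S.φ t fP = fP) : False := by
  obtain ⟨q, hq⟩ := S.induced R (cN t) (S.swap_fix h0 he)
  refine S.swap_not_inner R h0 he q hq (S.inn_of_fix R q ?_ ?_)
  · have hmem : S.dT fP * zG ∈ NG := by
      rw [S.mem_N, map_mul, S.ε_dT, S.ε_g 11 (by norm_num)]
      decide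
    have h := hq ⟨⟨_, hmem⟩, mul_mem S.dT_fP_C2 S.zG_C2⟩
    have h1 : S.ρL R ⟨⟨_, hmem⟩, mul_mem S.dT_fP_C2 S.zG_C2⟩ = fbar := by
      show R.ρ (⟨_, S.dT_fP_C2⟩ * ⟨_, S.zG_C2⟩) = _
      rw [map_mul, R.ρ_z, mul_one, S.ρ_fP R]
    rw [h1] at h
    refine h.symm.trans ?_
    show R.ρ _ = _
    have hval : t * (S.dT fP * zG) * t⁻¹ = S.dT fP * eG := by
      rw [show t * (S.dT fP * zG) * t⁻¹ = t * S.dT fP * t⁻¹ * (t * zG * t⁻¹) by group, ← S.d_conj hf]
      congr 1
      rw [← S.dT_zero, ← S.d_conj h0, S.dT_eP]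
    refine (congrArg R.ρ (show _ = (⟨_, S.dT_fP_C2⟩ * ⟨_, S.eG_C2⟩ : ↥C2) from
      Subtype.ext ((cN_coe t ⟨_, hmem⟩).trans hval))).trans ?_
    rw [map_mul, R.ρ_e, mul_one, S.ρ_fP R]
  · have h := hq S.xL
    have h1 : S.ρL R S.xL = xbar := S.ρ_xG R S.xG_C2
    rw [h1] at h
    refine h.symm.trans (Eq.trans ?_ h1)
    refine congrArg (S.ρL R) (Subtype.ext (Subtype.ext ?_))
    show ((cN t ⟨xG, S.xG_N⟩ : ↥NG) : G) = xG
    rw [cN_coe]
    show t * xG * t⁻¹ = xG
    rw [hX.eq, mul_inv_cancel_right]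

include R in
/-- An involution of the derived group commuting with the element of order eleven is conjugate to the base product. -/
theorem eleven_conj {t : G} (ht : t ∈ NG) (ht2 : t * t = 1) (ht1 : t ≠ 1) (hX : Commute t xG) :
    ∃ y ∈ NG, y * zeG * y⁻¹ = t := by
  have hperm : ∀ {s : G}, Commute s xG → ∀ p : Fin P, S.φ xG p = p →
      S.φ s p = 0 ∨ S.φ s p = fP ∨ S.φ s p = eP := fun {s} hs p hp => by
    refine S.fixed_three ?_
    rw [← Equiv.Perm.mul_apply, ← map_mul, ← hs.eq, map_mul, Equiv.Perm.mul_apply, hp]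
  obtain ⟨hx0, hxe, hxf⟩ := S.xG_fix
  have hinv : ∀ {s : G}, s * s = 1 → ∀ p, S.φ s (S.φ s p) = p := fun {s} hs p => by
    rw [← Equiv.Perm.mul_apply, ← map_mul, hs, map_one, Equiv.Perm.one_apply]
  by_cases hall : S.φ t 0 = 0 ∧ S.φ t eP = eP
  · refine S.eleven_fixed R ht ht2 ht1 hX hall.1 hall.2 ?_
    rcases hperm hX fP hxf with h | h | h
    · exact absurd ((S.φ t).injective (h.trans hall.1.symm)) S.fP_ne.1
    · exact h
    · exact absurd ((S.φ t).injective (h.trans hall.2.symm)) S.fP_ne.2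
  · exfalso
    obtain ⟨hcok, hcx, hc0, hcf, hce⟩ := cyW_ok
    set c : G := el cyW with hc
    have hcX : Commute c xG := by
      show c * el xW = el xW * c
      rw [hc, ← el_append, ← el_append]
      exact S.eq_of_agree (okw_append.2 ⟨hcok, xW_ok.1⟩) (okw_append.2 ⟨xW_ok.1, hcok⟩) hcx
    have hstep : ∀ {a b : Fin P}, Fi24H.walkT cyW (a : ℕ) = (b : ℕ) → S.φ c b = a := fun {a b} h => by
      have h1 : (S.φ c)⁻¹ a = b := Fin.ext ((S.phi_el hcok a).trans h)
      rw [← h1, Equiv.Perm.inv_def, Equiv.apply_symm_apply]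
    have cf : S.φ c fP = 0 := hstep hc0
    have ce : S.φ c eP = fP := hstep hcf
    have c0 : S.φ c 0 = eP := hstep hce
    have key : ∀ {k : G}, Commute k xG → ∀ p : Fin P, S.φ t p = p → S.φ k p = fP → S.φ xG p = p → False := by
      intro k hk p htp hkp hxp
      set s := k * t * k⁻¹ with hs
      have hsX : Commute s xG := (hk.mul_left hX).mul_left hk.inv_left
      have hs2 : s * s = 1 := by rw [hs, show k * t * k⁻¹ * (k * t * k⁻¹) = k * (t * t) * k⁻¹ by group, ht2, mul_one, mul_inv_cancel]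
      have hval : ∀ r, S.φ s (S.φ k r) = S.φ k (S.φ t r) := fun r => by
        rw [hs, map_mul, map_mul, map_inv, Equiv.Perm.mul_apply, Equiv.Perm.mul_apply, Equiv.Perm.inv_def,
          Equiv.symm_apply_apply]
      have hsf : S.φ s fP = fP := by rw [← hkp, hval, htp]
      have hnot : ¬ (S.φ s 0 = 0 ∧ S.φ s eP = eP) := by
        rintro ⟨a, b⟩
        have hfix : ∀ r, S.φ xG r = r → S.φ t r = r := fun r hr => by
          have h2 : S.φ s (S.φ k r) = S.φ k r := by
            rcases hperm hk r hr with h | h | h <;> rw [h]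
            exacts [a, hsf, b]
          exact (S.φ k).injective ((hval r).symm.trans h2)
        exact hall ⟨hfix _ hx0, hfix _ hxe⟩
      have h0e : S.φ s 0 = eP := by
        rcases hperm hsX 0 hx0 with h | h | h
        · refine absurd ⟨h, ?_⟩ hnot
          rcases hperm hsX eP hxe with h' | h' | h'
          · exact absurd ((S.φ s).injective (h'.trans h.symm)) eP_ne_zero
          · exact absurd ((S.φ s).injective (h'.trans hsf.symm)) S.fP_ne.2.symm
          · exact h'
        · exact absurd ((S.φ s).injective (h.trans hsf.symm)) S.fP_ne.1.symm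
        · exact h
      exact S.eleven_swap R hsX h0e (by rw [← h0e, hinv hs2]) hsf
    rcases hperm hX 0 hx0 with a | a | a
    · exact key (hcX.mul_left hcX) 0 a (by rw [map_mul, Equiv.Perm.mul_apply, c0, ce]) hx0
    · refine key hcX eP ?_ ce hxe
      rcases hperm hX eP hxe with b | b | b
      · exact absurd ((hinv ht2 eP).symm.trans ((congrArg _ b).trans a)) S.fP_ne.2.symm
      · exact absurd ((S.φ t).injective (b.trans a.symm)) eP_ne_zero
      · exact b
    · refine key (Commute.one_left xG) fP ?_ (by rw [map_one, Equiv.Perm.one_apply]) hxf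
      rcases hperm hX fP hxf with b | b | b
      · exact absurd ((hinv ht2 fP).symm.trans ((congrArg _ b).trans a)) S.fP_ne.2
      · exact b
      · exact absurd ((S.φ t).injective (b.trans a.symm)) S.fP_ne.1

end Act

end

end CfsgLib.Fi24Out
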