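import Cfsg.Agent.Fi24Out.Pairs
import Cfsg.Agent.Fi23Out.Out

/-!
The centraliser of two commuting transpositions in `Cfsg.Spor.Fi24` over `Fi₂₂`, and the
automorphisms of the derived group that fix their product.
-/

set_option autoImplicit false
set_option maxRecDepth 100000

namespace CfsgLib.Fi24Out

open CfsgLib.CosetEnum

noncomputable section

/-- The derived group. -/
abbrev NG : Subgroup G := commutator G

instance : NG.Normal := inferInstanceAs (commutator G).Normal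

/-- The centraliser of the two transpositions. -/
def C2 : Subgroup G := Subgroup.centralizer ({zG} : Set G) ⊓ Subgroup.centralizer ({eG} : Set G)

/-- Its part in the derived group. -/
def LN : Subgroup ↥NG := C2.subgroupOf NG

theorem pr_mem (a b : Fin 12) : Fi24.setup.g a * Fi24.setup.g b ∈ NG := by
  obtain ⟨S⟩ := exists_act
  rw [S.mem_N, map_mul, S.ε_g a a.2, S.ε_g b b.2]
  decide

/-- The product of two generators. -/
def pr (a b : Fin 12) : ↥NG := ⟨Fi24.setup.g a * Fi24.setup.g b, pr_mem a b⟩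

theorem pr_mul (a b c : Fin 12) : pr a b * pr b c = pr a c := by
  refine Subtype.ext ?_
  show Fi24.setup.g a * Fi24.setup.g b * (Fi24.setup.g b * Fi24.setup.g c) = Fi24.setup.g a * Fi24.setup.g c
  rw [mul_assoc, ← mul_assoc (Fi24.setup.g b), Fi24.sq_g, one_mul]

theorem pr_self (a : Fin 12) : pr a a = 1 := Subtype.ext (Fi24.sq_g a)

theorem pr_inv (a b : Fin 12) : (pr a b)⁻¹ = pr b a :=
  inv_eq_of_mul_eq_one_right ((pr_mul a b a).trans (pr_self a))

theorem word_of_closure {M : Set ℕ} {y : G} (hy : y ∈ Subgroup.closure (Fi24.setup.g '' M)) :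
    ∃ w : List ℕ, (∀ x ∈ w, x ∈ M) ∧ el w = y := by
  induction hy using Subgroup.closure_induction with
  | mem y hy => obtain ⟨x, hx, rfl⟩ := hy; exact ⟨[x], by simpa using hx, el_single x⟩
  | one => exact ⟨[], by simp, el_nil⟩
  | mul a b _ _ ha hb =>
    obtain ⟨u, hu, rfl⟩ := ha
    obtain ⟨v, hv, rfl⟩ := hb
    exact ⟨u ++ v, fun x hx => (List.mem_append.1 hx).elim (hu x) (hv x), el_append u v⟩
  | inv a _ ha =>
    obtain ⟨u, hu, rfl⟩ := ha
    exact ⟨u.reverse, fun x hx => hu x (List.mem_reverse.1 hx), el_reverse u⟩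

theorem even_word_mem {K : Subgroup ↥NG} {M : Set ℕ} (hM : ∀ x ∈ M, x < 12)
    (hK : ∀ a b : Fin 12, (a : ℕ) ∈ M → (b : ℕ) ∈ M → pr a b ∈ K) :
    ∀ w : List ℕ, (∀ x ∈ w, x ∈ M) → Even w.length → ∀ h : el w ∈ NG, (⟨el w, h⟩ : ↥NG) ∈ K
  | [], _, _, h => by
    rw [show (⟨el [], h⟩ : ↥NG) = 1 from Subtype.ext el_nil]
    exact one_mem _
  | [_], _, he, _ => absurd he (by simp)
  | a :: b :: w, hw, he, h => by
    have ha : a ∈ M := hw a List.mem_cons_self
    have hb : b ∈ M := hw b (List.mem_cons_of_mem _ List.mem_cons_self)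
    have hp := hK ⟨a, hM a ha⟩ ⟨b, hM b hb⟩ ha hb
    have heq : el (a :: b :: w) = (pr ⟨a, hM a ha⟩ ⟨b, hM b hb⟩ : G) * el w := by
      show _ = Fi24.setup.g a * Fi24.setup.g b * el w
      rw [el_cons, el_cons, mul_assoc]
    have h' : el w ∈ NG := by
      have := mul_mem (inv_mem (pr ⟨a, hM a ha⟩ ⟨b, hM b hb⟩).2) h
      rwa [heq, ← mul_assoc, inv_mul_cancel, one_mul] at this
    rw [show (⟨el (a :: b :: w), h⟩ : ↥NG) = pr ⟨a, hM a ha⟩ ⟨b, hM b hb⟩ * ⟨el w, h'⟩ from Subtype.ext heq]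
    exact mul_mem hp (even_word_mem hM hK w (fun x hx => hw x (List.mem_cons_of_mem _ (List.mem_cons_of_mem _ hx)))
      (by simpa [Nat.even_add_one] using he) h')

/-- Conjugation on the derived group. -/
def cN (k : G) : MulAut ↥NG := MulAut.conjNormal k

theorem cN_coe (k : G) (y : ↥NG) : ((cN k y : ↥NG) : G) = k * y * k⁻¹ := MulAut.conjNormal_apply k y

/-- The map of the centraliser of the pair onto `Fi₂₂`. -/
structure Rho where
  ρ : ↥C2 →* Fi22Out.G
  gen : ∀ x, x < 9 → ∀ h : Fi24.setup.g x ∈ C2, ρ ⟨_, h⟩ = Fi22.setup.g x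
  ρ_z : ∀ h : zG ∈ C2, ρ ⟨_, h⟩ = 1
  ρ_e : ∀ h : eG ∈ C2, ρ ⟨_, h⟩ = 1
  ker : ∀ y : ↥C2, ρ y = 1 → (y : G) = 1 ∨ (y : G) = zG ∨ (y : G) = eG ∨ (y : G) = zeG

theorem m23_lm : ∀ x, x < 9 → Fi24.m23 (Fi23.lm x) = x := by decide

theorem eW_even : eW.length % 2 = 1 := by decide +kernel

theorem exists_rho : Nonempty Rho := by
  obtain ⟨-, -, -, -, -, -, -, -, -, χ, hbij, hχ⟩ := Fi24.order_and_action
  obtain ⟨S3⟩ := Fi23Out.exists_act
  obtain ⟨S⟩ := exists_act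
  let χe : Cfsg.Spor.Fi23 ≃* Fi24H.H ⧸ Fi24.Z := MulEquiv.ofBijective χ hbij
  let R : ↥Fi24H.H →* Fi23Out.GT := χe.symm.toMonoidHom.comp (QuotientGroup.mk' Fi24.Z)
  have hR : ∀ (y : ↥Fi24H.H) (x : Fi23Out.GT), χ x = QuotientGroup.mk y → R y = x := fun y x h =>
    χe.injective ((χe.apply_symm_apply _).trans h.symm)
  have hword : ∀ w : List ℕ, (∀ x ∈ w, x < 10) → ∃ h : el (w.map Fi24.m23) ∈ Fi24H.H,
      R ⟨_, h⟩ = prodw Fi23.setup.g w := by
    intro w
    induction w with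
    | nil =>
      refine fun _ => ⟨by rw [List.map_nil, el_nil]; exact one_mem _, hR _ _ ?_⟩
      exact (map_one χ).trans ((QuotientGroup.eq_one_iff _).2 (by convert one_mem Fi24.Z; exact el_nil)).symm
    | cons a w ih =>
      intro hw
      obtain ⟨h, he⟩ := ih fun x hx => hw x (List.mem_cons_of_mem _ hx)
      have ha := hw a List.mem_cons_self
      have hm : el ((a :: w).map Fi24.m23) ∈ Fi24H.H := by
        rw [List.map_cons, el_cons]
        exact mul_mem (Fi24.g_mem_H _ (Fi24.m23_mem a)) h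
      refine ⟨hm, ?_⟩
      rw [show (⟨_, hm⟩ : ↥Fi24H.H) = ⟨_, Fi24.g_mem_H _ (Fi24.m23_mem a)⟩ * ⟨_, h⟩ from
        Subtype.ext (el_cons (Fi24.m23 a) (w.map Fi24.m23)), map_mul, he, hR _ _ (hχ a ha), prodw_cons]
  have hCH : C2 ≤ Fi24H.H := fun y hy => by
    rw [S.mem_H, S.stab]
    exact Subgroup.mem_centralizer_singleton_iff.1 hy.1
  obtain ⟨heH, hRe⟩ := hword _ Fi23.zWord_map
  have hRe' : R ⟨eG, heH⟩ = Fi23Out.zT := hRe
  let R2 : ↥C2 →* Fi23Out.GT := R.comp (Subgroup.inclusion hCH)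
  have hmem : ∀ y : ↥C2, R2 y ∈ Fi23H.enum.H := fun y => by
    rw [S3.mem_H, S3.stab, ← hRe']
    exact (show Commute (Subgroup.inclusion hCH y) ⟨eG, heH⟩ from
      Subtype.ext (Subgroup.mem_centralizer_singleton_iff.1 y.2.2)).map R
  let ρ : ↥C2 →* Fi22Out.G := S3.ψ.comp (R2.codRestrict _ hmem)
  have hRz : R ⟨zG, Fi24.g_mem_H 11 (by decide)⟩ = 1 :=
    hR _ _ ((map_one χ).trans ((QuotientGroup.eq_one_iff _).2 (Subgroup.mem_zpowers Fi24.lH)).symm)
  refine ⟨⟨ρ, fun x hx h => ?_, fun h => ?_, fun h => ?_, fun y hy => ?_⟩⟩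
  · have e1 : R2 ⟨_, h⟩ = Fi23.setup.g (Fi23.lm x) := by
      refine hR _ _ ?_
      rw [hχ _ (Fi23Out.Act.lm_lt hx)]
      congr 1
      refine Subtype.ext ?_
      show Fi24.setup.g (Fi24.m23 (Fi23.lm x)) = Fi24.setup.g x
      rw [m23_lm x hx]
    refine S3.ψ_eq fun i => ?_
    show S3.φ (R2 ⟨_, h⟩) _ = _
    rw [e1]
    exact Fi23.letter_restricts S3.φ S3.spec S3.S'.φ S3.S'.spec x hx i
  · have : R2.codRestrict _ hmem ⟨zG, h⟩ = 1 := Subtype.ext hRz
    show S3.ψ _ = 1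
    rw [this, map_one]
  · have : R2.codRestrict _ hmem ⟨eG, h⟩ = ⟨Fi23Out.zT, Fi23Out.Act.z_mem⟩ := Subtype.ext hRe'
    show S3.ψ _ = 1
    rw [this, S3.ψ_z]
  · have hker : ∀ v : ↥Fi24H.H, R v = 1 → (v : G) = 1 ∨ (v : G) = zG := by
      intro v hv
      have hvZ : v ∈ Fi24.Z := by
        rw [← QuotientGroup.eq_one_iff]
        exact χe.symm.injective (hv.trans (map_one _).symm)
      obtain ⟨m, hm⟩ := Subgroup.mem_zpowers_iff.mp hvZ
      have hsq : (Fi24.setup.g 11) ^ (2 : ℤ) = 1 := by rw [zpow_two, Fi24.sq_g]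
      have hval : (v : G) = Fi24.setup.g 11 ^ m := by rw [← hm]; rfl
      rcases Int.even_or_odd m with ⟨r, rfl⟩ | ⟨r, rfl⟩
      · left; rw [hval, ← two_mul, zpow_mul, hsq, one_zpow]
      · right; rw [hval, zpow_add, zpow_mul, hsq, one_zpow, one_mul, zpow_one]
    rcases S3.ψ_ker (y := R2.codRestrict _ hmem y) hy with h | h
    · rcases hker _ h with h | h
      · exact Or.inl h
      · exact Or.inr (Or.inl h)
    · rcases hker (Subgroup.inclusion hCH y * ⟨eG, heH⟩⁻¹) (by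
        rw [map_mul, map_inv, hRe', mul_inv_eq_one]; exact h) with h' | h'
      · refine Or.inr (Or.inr (Or.inl ?_))
        exact mul_inv_eq_one.1 h'
      · exact Or.inr (Or.inr (Or.inr (mul_inv_eq_iff_eq_mul.1 h')))

namespace Act

variable (S : Act) (R : Rho)
include S

theorem mem_C2 {y : G} : y ∈ C2 ↔ S.φ y 0 = 0 ∧ S.φ y eP = eP := by
  rw [S.stab, ← S.commute_iff, S.dT_eP]
  exact Iff.and Subgroup.mem_centralizer_singleton_iff Subgroup.mem_centralizer_singleton_iff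

theorem z_comm_e : Commute zG eG := by
  rw [← S.dT_eP]; exact (S.commute_iff _ _).2 S.zG_eP

theorem zG_C2 : zG ∈ C2 :=
  ⟨Subgroup.mem_centralizer_singleton_iff.2 rfl, Subgroup.mem_centralizer_singleton_iff.2 S.z_comm_e.eq⟩

theorem eG_C2 : eG ∈ C2 :=
  ⟨Subgroup.mem_centralizer_singleton_iff.2 S.z_comm_e.symm.eq, Subgroup.mem_centralizer_singleton_iff.2 rfl⟩

theorem g_C2 {x : ℕ} (hx : x < 9) : Fi24.setup.g x ∈ C2 :=
  ⟨Subgroup.mem_centralizer_singleton_iff.2 (S.nine_commute hx).1.eq,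
    Subgroup.mem_centralizer_singleton_iff.2 (S.nine_commute hx).2.eq⟩

theorem ε_eG : S.ε eG = -1 := by rw [← S.dT_eP, S.ε_dT]

theorem zeG_N : zeG ∈ NG := by
  rw [S.mem_N, zeG, map_mul, S.ε_g 11 (by norm_num), S.ε_eG]
  decide

/-- The product of the pair, in the derived group. -/
def zeN : ↥NG := ⟨zeG, S.zeG_N⟩

theorem zeN_LN : S.zeN ∈ LN := mul_mem (S.zG_C2) (S.eG_C2)

theorem zeG_sq : zeG * zeG = 1 := by
  rw [zeG, mul_assoc, ← mul_assoc eG, ← S.z_comm_e.eq, mul_assoc zG eG, ← mul_assoc zG, Fi24.sq_g, one_mul,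
    ← S.dT_eP, S.dT_mul_self]

theorem zeG_ne_one : zeG ≠ 1 := by
  intro h
  have h1 : zG = eG⁻¹ := eq_inv_of_mul_eq_one_left h
  rw [← S.dT_eP, S.dT_inv, ← S.dT_zero] at h1
  exact eP_ne_zero (S.d_inj h1).symm

theorem zeG_comm_C2 {y : G} (hy : y ∈ C2) : Commute y zeG :=
  (show Commute y zG from Subgroup.mem_centralizer_singleton_iff.1 hy.1).mul_right
    (Subgroup.mem_centralizer_singleton_iff.1 hy.2)

/-- The map on the part in the derived group. -/
def ρL (_S : Act) (R : Rho) : ↥LN →* Fi22Out.G where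
  toFun y := R.ρ ⟨((y : ↥NG) : G), y.2⟩
  map_one' := map_one R.ρ
  map_mul' a b := map_mul R.ρ ⟨((a : ↥NG) : G), a.2⟩ ⟨((b : ↥NG) : G), b.2⟩

theorem ρL_ker {y : ↥LN} (h : S.ρL R y = 1) : (y : ↥NG) = 1 ∨ (y : ↥NG) = S.zeN := by
  have hy : S.ε ((y : ↥NG) : G) = 1 := (S.mem_N _).1 (y : ↥NG).2
  rcases R.ker _ h with e | e | e | e
  · exact Or.inl (Subtype.ext e)
  · rw [show ((y : ↥NG) : G) = zG from e, S.ε_g 11 (by norm_num)] at hy
    exact absurd hy (by decide)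
  · rw [show ((y : ↥NG) : G) = eG from e, S.ε_eG] at hy
    exact absurd hy (by decide)
  · exact Or.inr (Subtype.ext e)

theorem ρL_zeN : S.ρL R ⟨S.zeN, S.zeN_LN⟩ = 1 := by
  show R.ρ _ = 1
  refine (congrArg R.ρ (show _ = (⟨zG, S.zG_C2⟩ * ⟨eG, S.eG_C2⟩ : ↥C2) from Subtype.ext rfl)).trans ?_
  rw [map_mul, R.ρ_z, R.ρ_e, one_mul]

theorem C2_word {w : List ℕ} (hw : ∀ x ∈ w, x < 9) : el w ∈ C2 := by
  induction w with
  | nil => rw [el_nil]; exact one_mem _
  | cons a w ih =>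
    rw [el_cons]
    exact mul_mem (S.g_C2 (hw a List.mem_cons_self)) (ih fun x hx => hw x (List.mem_cons_of_mem _ hx))

theorem ρ_word : ∀ (w : List ℕ) (hw : ∀ x ∈ w, x < 9) (h : el w ∈ C2), R.ρ ⟨_, h⟩ = prodw Fi22.setup.g w := by
  intro w
  induction w with
  | nil =>
    intro _ h
    rw [prodw_nil, show (⟨el [], h⟩ : ↥C2) = 1 from Subtype.ext el_nil, map_one]
  | cons a w ih =>
    intro hw h
    have hw' := fun x hx => hw x (List.mem_cons_of_mem a hx)
    rw [prodw_cons, show (⟨el (a :: w), h⟩ : ↥C2) = ⟨_, S.g_C2 (hw a List.mem_cons_self)⟩ * ⟨_, S.C2_word hw'⟩ from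
      Subtype.ext (el_cons a w), map_mul, R.gen a (hw a List.mem_cons_self), ih hw']

include R in
theorem C2_gen {y : G} (hy : y ∈ C2) : ∃ w : List ℕ, (∀ x ∈ w, x < 9) ∧ el w = y := by
  obtain ⟨w, hw, hu⟩ : ∃ w : List ℕ, (∀ x ∈ w, x < 9) ∧ prodw Fi22.setup.g w = R.ρ ⟨y, hy⟩ := by
    generalize R.ρ ⟨y, hy⟩ = u
    have hm : u ∈ Fi22.setup.letSub (List.range 9) := by
      rw [Fi22.setup.letSub_all (List.range 9) (fun x hx => List.mem_range.mpr hx)]
      exact Subgroup.mem_top u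
    induction hm using Subgroup.closure_induction with
    | mem v hv =>
      obtain ⟨x, hx, rfl⟩ := hv
      exact ⟨[x], by simpa using List.mem_range.mp hx, by rw [prodw_cons, prodw_nil, mul_one]⟩
    | one => exact ⟨[], by simp, rfl⟩
    | mul a b _ _ ha hb =>
      obtain ⟨u, hu, rfl⟩ := ha
      obtain ⟨v, hv, rfl⟩ := hb
      exact ⟨u ++ v, fun x hx => (List.mem_append.1 hx).elim (hu x) (hv x), prodw_append _ u v⟩
    | inv a _ ha =>
      obtain ⟨u, hu, rfl⟩ := ha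
      exact ⟨u.reverse, fun x hx => hu x (List.mem_reverse.1 hx), Fi22Out.rev_word u hu⟩
  have hwC := S.C2_word hw
  have hk : R.ρ (⟨y, hy⟩ * (⟨_, hwC⟩ : ↥C2)⁻¹) = 1 := by
    rw [map_mul, map_inv, S.ρ_word R w hw, hu, mul_inv_cancel]
  set zw := (List.replicate 9 [0, 1, 2, 3, 4, 5, 7]).flatten with hzw
  set ew := (List.replicate 9 [1, 2, 3, 4, 5, 6, 7]).flatten with hew
  have hzw9 : ∀ x ∈ zw, x < 9 := by rw [hzw]; decide
  have hew9 : ∀ x ∈ ew, x < 9 := by rw [hew]; decide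
  have ok9 : ∀ l : List ℕ, (∀ x ∈ l, x < 9) → okw l = true := fun l hl => by
    simp only [okw, List.all_eq_true, Nat.blt_eq]
    exact fun x hx => by have := hl x hx; omega
  have hz : el zw = zG := by
    show el zw = Fi24.setup.g 11
    rw [← el_single 11, S.eq_of_agree (L := [11]) (by decide) (ok9 _ hzw9) zW_nine.1]
  have he : el ew = eG := by
    rw [eG, S.eq_of_agree (L := eW) eW_ok.1 (ok9 _ hew9) zW_nine.2]
  have fin : ∀ k : List ℕ, (∀ x ∈ k, x < 9) → y * (el w)⁻¹ = el k → ∃ w : List ℕ, (∀ x ∈ w, x < 9) ∧ el w = y :=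
    fun k hk e => ⟨k ++ w, fun x hx => (List.mem_append.1 hx).elim (hk x) (hw x), by
      rw [el_append, ← e, inv_mul_cancel_right]⟩
  rcases R.ker _ hk with e | e | e | e
  · exact fin [] (by simp) (e.trans el_nil.symm)
  · exact fin zw hzw9 (e.trans hz.symm)
  · exact fin ew hew9 (e.trans he.symm)
  · exact fin (zw ++ ew) (fun x hx => (List.mem_append.1 hx).elim (hzw9 x) (hew9 x))
      (e.trans (by rw [el_append, hz, he, zeG]))

theorem ε_el : ∀ w : List ℕ, (∀ x ∈ w, x < 12) → S.ε (el w) = (-1) ^ w.length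
  | [], _ => by rw [el_nil, map_one, List.length_nil, pow_zero]
  | a :: w, hw => by
    rw [el_cons, map_mul, S.ε_g a (hw a List.mem_cons_self),
      ε_el w (fun x hx => hw x (List.mem_cons_of_mem _ hx)), List.length_cons, pow_succ']

theorem even_of_N {w : List ℕ} (hw : ∀ x ∈ w, x < 12) (h : el w ∈ NG) : Even w.length := by
  have := (S.mem_N _).1 h
  rw [S.ε_el w hw] at this
  rcases Nat.even_or_odd w.length with he | ho
  · exact he
  · rw [ho.neg_one_pow] at this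
    exact absurd this (by decide)

/-- Adjacent generators among the nine. -/
def adj9 : List (Fin 12 × Fin 12) := [(0, 1), (1, 2), (2, 3), (3, 4), (4, 5), (5, 6), (3, 7), (7, 8)]

include R in
theorem LN_le {K : Subgroup ↥NG} (hK : ∀ e ∈ adj9, pr e.1 e.2 ∈ K) : LN ≤ K := by
  simp only [adj9, List.mem_cons, List.not_mem_nil, or_false, forall_eq_or_imp, forall_eq] at hK
  obtain ⟨h01, h12, h23, h34, h45, h56, h37, h78⟩ := hK
  have h0 : ∀ a b : Fin 12, pr a 0 ∈ K → pr a b ∈ K → pr b 0 ∈ K := fun a b ha hab => by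
    have := mul_mem (inv_mem hab) ha
    rwa [pr_inv, pr_mul] at this
  have e0 : pr 0 0 ∈ K := by rw [pr_self]; exact one_mem _
  have e1 := h0 0 1 e0 h01
  have e2 := h0 1 2 e1 h12
  have e3 := h0 2 3 e2 h23
  have e4 := h0 3 4 e3 h34
  have e5 := h0 4 5 e4 h45
  have e6 := h0 5 6 e5 h56
  have e7 := h0 3 7 e3 h37
  have e8 := h0 7 8 e7 h78
  have hall : ∀ a : Fin 12, (a : ℕ) < 9 → pr a 0 ∈ K := by
    intro a ha
    fin_cases a <;> simp at ha <;> assumption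
  intro y hy
  obtain ⟨w, hw, he⟩ := S.C2_gen R hy
  have h' : el w ∈ NG := he ▸ y.2
  rw [show y = ⟨el w, h'⟩ from Subtype.ext he.symm]
  refine even_word_mem (M := {x | x < 9}) (fun x hx => by have : x < 9 := hx; omega) (fun a b ha hb => ?_) w hw
    (S.even_of_N (fun x hx => by have := hw x hx; omega) h') h'
  rw [← pr_mul a 0 b, ← pr_inv b 0]
  exact mul_mem (hall a ha) (inv_mem (hall b hb))

theorem adj9_LN {e : Fin 12 × Fin 12} (he : e ∈ adj9) : pr e.1 e.2 ∈ LN ∧ pr e.1 e.2 ^ 3 = 1 := by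
  have h : (e.1 : ℕ) < 9 ∧ (e.2 : ℕ) < 9 ∧ [(e.1 : ℕ), e.2, e.1, e.2, e.1, e.2] ∈ Fi24.words := by
    revert e he
    unfold adj9
    decide +kernel
  refine ⟨mul_mem (S.g_C2 h.1) (S.g_C2 h.2.1), Subtype.ext ?_⟩
  have h1 := Fi24.setup.prod_mem _ h.2.2
  simp only [prodw, List.map_cons, List.map_nil, List.prod_cons, List.prod_nil, mul_one] at h1
  show (Fi24.setup.g e.1 * Fi24.setup.g e.2) ^ 3 = 1
  rw [pow_succ, pow_two]
  simpa only [mul_assoc] using h1

include R in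
theorem maps_LN (f : ↥NG →* ↥NG) (hze : f S.zeN = S.zeN) {y : ↥NG} (hy : y ∈ LN) : f y ∈ LN := by
  refine (S.LN_le R (K := LN.comap f) fun e he => ?_) hy
  obtain ⟨hm, h3⟩ := S.adj9_LN he
  have hc : Commute (pr e.1 e.2) S.zeN := Subtype.ext (S.zeG_comm_C2 hm).eq
  have hc' : Commute ((f (pr e.1 e.2) : ↥NG) : G) (S.dT 0 * S.dT eP) := by
    rw [← S.zeG_eq]
    exact congrArg Subtype.val (hze ▸ (hc.map f).eq : f (pr e.1 e.2) * S.zeN = S.zeN * f (pr e.1 e.2))
  have h := S.fix_pair_of_cube eP_ne_zero.symm S.base_com hc' (by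
    rw [← SubgroupClass.coe_pow, ← map_pow, h3, map_one]; rfl)
  exact S.mem_C2.2 h

theorem ρL_surjective : Function.Surjective (S.ρL R) := by
  intro u
  have hm : u ∈ Fi22.setup.letSub (List.range 9) := by
    rw [Fi22.setup.letSub_all (List.range 9) (fun x hx => List.mem_range.mpr hx)]
    exact Subgroup.mem_top u
  have hle : Fi22.setup.letSub (List.range 9) ≤ (S.ρL R).range := by
    refine (Subgroup.closure_le _).mpr ?_
    rintro _ ⟨x, hx, rfl⟩
    have hx9 : x < 9 := List.mem_range.mp hx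
    have hmem : Fi24.setup.g x * zG ∈ NG := by
      rw [S.mem_N, map_mul, S.ε_g x (by omega), S.ε_g 11 (by norm_num)]
      decide
    refine ⟨⟨⟨_, hmem⟩, mul_mem (S.g_C2 hx9) S.zG_C2⟩, ?_⟩
    show R.ρ (⟨_, S.g_C2 hx9⟩ * ⟨_, S.zG_C2⟩) = _
    rw [map_mul, R.gen x hx9, R.ρ_z, mul_one]
  exact hle hm

/-- An automorphism fixing the product of the pair induces one of `Fi₂₂`. -/
theorem induced (f : MulAut ↥NG) (hze : f S.zeN = S.zeN) :
    ∃ q : MulAut Fi22Out.G, ∀ y : ↥LN,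
      S.ρL R ⟨f y, S.maps_LN R f.toMonoidHom hze y.2⟩ = q (S.ρL R y) := by
  haveI := Fi22.finite_grp
  let fL : ↥LN →* ↥LN :=
    { toFun := fun y => ⟨f y, S.maps_LN R f.toMonoidHom hze y.2⟩
      map_one' := Subtype.ext (map_one f)
      map_mul' := fun a b => Subtype.ext (map_mul f _ _) }
  have hwd : ∀ y y' : ↥LN, S.ρL R y = S.ρL R y' → S.ρL R (fL y) = S.ρL R (fL y') := by
    intro y y' h
    have h1 : S.ρL R (y⁻¹ * y') = 1 := by rw [map_mul, map_inv, h, inv_mul_cancel]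
    have h2 : S.ρL R (fL (y⁻¹ * y')) = 1 := by
      rcases S.ρL_ker R h1 with e | e
      · rw [show fL (y⁻¹ * y') = 1 from Subtype.ext (by
          show f ((y⁻¹ * y' : ↥LN) : ↥NG) = 1
          rw [e, map_one]), map_one]
      · rw [show fL (y⁻¹ * y') = ⟨S.zeN, S.zeN_LN⟩ from Subtype.ext (by
          show f ((y⁻¹ * y' : ↥LN) : ↥NG) = _
          rw [e, hze]), S.ρL_zeN]
    rwa [map_mul, map_inv, map_mul, map_inv, inv_mul_eq_one] at h2
  choose lift hlift using S.ρL_surjective R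
  let q : Fi22Out.G →* Fi22Out.G :=
    { toFun := fun u => S.ρL R (fL (lift u))
      map_one' := (hwd _ 1 (by rw [hlift, map_one])).trans (by rw [map_one, map_one])
      map_mul' := fun a b => (hwd _ (lift a * lift b) (by rw [hlift, map_mul, hlift, hlift])).trans
        (by rw [map_mul, map_mul]) }
  have hinj : Function.Injective q := by
    rw [injective_iff_map_eq_one]
    intro u hu
    have hl : (lift u : ↥NG) = 1 ∨ (lift u : ↥NG) = S.zeN := by
      rcases S.ρL_ker R (y := fL (lift u)) hu with e | e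
      · exact Or.inl (f.injective (e.trans (map_one f).symm))
      · exact Or.inr (f.injective (e.trans hze.symm))
    rcases hl with e | e
    · rw [← hlift u, show lift u = 1 from Subtype.ext e, map_one]
    · rw [← hlift u, show lift u = ⟨S.zeN, S.zeN_LN⟩ from Subtype.ext e, S.ρL_zeN]
  exact ⟨MulEquiv.ofBijective q (Finite.injective_iff_bijective.mp hinj), fun y => hwd y _ (hlift _).symm⟩

theorem swap_fix {s : G} (h0 : S.φ s 0 = eP) (he : S.φ s eP = 0) : cN s S.zeN = S.zeN := by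
  refine Subtype.ext ?_
  rw [cN_coe]
  show s * zeG * s⁻¹ = zeG
  rw [S.zeG_eq, show s * (S.dT 0 * S.dT eP) * s⁻¹ = s * S.dT 0 * s⁻¹ * (s * S.dT eP * s⁻¹) by group,
    ← S.d_conj h0, ← S.d_conj he]
  exact (S.pair_comm S.base_com).symm

theorem C2_fix (k : G) (hk : k ∈ C2) : cN k S.zeN = S.zeN := by
  refine Subtype.ext ?_
  rw [cN_coe]
  show k * zeG * k⁻¹ = zeG
  rw [(S.zeG_comm_C2 hk).eq, mul_inv_cancel_right]

/-- Two automorphisms fixing the product that agree modulo it agree. -/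
theorem eq_on_LN (f g : MulAut ↥NG) (hf : f S.zeN = S.zeN) (hg : g S.zeN = S.zeN)
    (h : ∀ y : ↥LN, S.ρL R ⟨f y, S.maps_LN R f.toMonoidHom hf y.2⟩ =
      S.ρL R ⟨g y, S.maps_LN R g.toMonoidHom hg y.2⟩) :
    ∀ y ∈ LN, f y = g y := by
  intro y hy
  refine (S.LN_le R (K := MonoidHom.eqLocus f.toMonoidHom g.toMonoidHom) fun e he => ?_) hy
  obtain ⟨hm, h3⟩ := S.adj9_LN he
  have h1 := h ⟨_, hm⟩
  set a : ↥LN := ⟨f (pr e.1 e.2), S.maps_LN R f.toMonoidHom hf hm⟩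
  set b : ↥LN := ⟨g (pr e.1 e.2), S.maps_LN R g.toMonoidHom hg hm⟩ with hb
  have h2 : S.ρL R (b⁻¹ * a) = 1 := by rw [map_mul, map_inv, h1, inv_mul_cancel]
  show f (pr e.1 e.2) = g (pr e.1 e.2)
  rcases S.ρL_ker R h2 with e2 | e2
  · exact (inv_mul_eq_one.1 e2).symm
  · exfalso
    have hfa : f (pr e.1 e.2) = g (pr e.1 e.2) * S.zeN := eq_mul_of_inv_mul_eq e2
    have hcb : Commute (g (pr e.1 e.2)) S.zeN :=
      Subtype.ext (S.zeG_comm_C2 (S.maps_LN R g.toMonoidHom hg hm)).eq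
    have h4 := congrArg (fun v => v ^ 3) hfa
    simp only [hcb.mul_pow, ← map_pow, h3, map_one, one_mul] at h4
    have h5 : S.zeN ^ 3 = S.zeN := Subtype.ext (by
      show zeG ^ 3 = zeG
      rw [pow_succ, pow_two, S.zeG_sq, one_mul])
    rw [h5] at h4
    exact S.zeG_ne_one (congrArg Subtype.val h4).symm

theorem induced_conj {k : G} (hk : k ∈ C2) (y : ↥LN) :
    S.ρL R ⟨cN k y, S.maps_LN R (cN k).toMonoidHom (S.C2_fix k hk) y.2⟩ =
      R.ρ ⟨k, hk⟩ * S.ρL R y * (R.ρ ⟨k, hk⟩)⁻¹ := by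
  show R.ρ ⟨((cN k y : ↥NG) : G), _⟩ = _
  rw [show S.ρL R y = R.ρ ⟨((y : ↥NG) : G), y.2⟩ from rfl, ← map_inv, ← map_mul, ← map_mul]
  exact congrArg R.ρ (Subtype.ext (cN_coe k y))

/-- The automorphism of `Fi₂₂` induced by an element interchanging the pair is not inner. -/
theorem swap_not_inner {s : G} (h0 : S.φ s 0 = eP) (he : S.φ s eP = 0) (q : MulAut Fi22Out.G)
    (hq : ∀ y : ↥LN, S.ρL R ⟨cN s y, S.maps_LN R (cN s).toMonoidHom (S.swap_fix h0 he) y.2⟩ = q (S.ρL R y)) :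
    q ∉ Cfsg.Inn Fi22Out.G := by
  rintro ⟨u, hu⟩
  obtain ⟨v, hv⟩ := S.ρL_surjective R u
  have hvC : ((v : ↥NG) : G) ∈ C2 := v.2
  have hagree := S.eq_on_LN R (cN s) (cN ((v : ↥NG) : G)) (S.swap_fix h0 he) (S.C2_fix _ hvC) fun y => by
    rw [hq, S.induced_conj R hvC, ← hu]
    show u * S.ρL R y * u⁻¹ = _
    rw [← hv]
    rfl
  -- the product of the first generator and the base transposition
  have hmem : Fi24.setup.g 0 * zG ∈ NG := by
    rw [S.mem_N, map_mul, S.ε_g 0 (by norm_num), S.ε_g 11 (by norm_num)]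
    decide
  have h := congrArg Subtype.val (hagree ⟨_, hmem⟩ (mul_mem (S.g_C2 (by norm_num)) S.zG_C2))
  rw [cN_coe, cN_coe] at h
  set k : G := ((v : ↥NG) : G) with hk
  set w := k⁻¹ * s with hw
  have hk0 := (S.mem_C2.1 hvC)
  have hw0 : S.φ w 0 = eP := by
    rw [hw, map_mul, map_inv, Equiv.Perm.mul_apply, h0, Equiv.Perm.inv_eq_iff_eq, hk0.2]
  have hconj : w * (S.dT aP * S.dT 0) * w⁻¹ = S.dT aP * S.dT 0 := by
    rw [S.dT_aP, S.dT_zero, hw, show k⁻¹ * s * (Fi24.setup.g 0 * zG) * (k⁻¹ * s)⁻¹ =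
      k⁻¹ * (s * (Fi24.setup.g 0 * zG) * s⁻¹) * k by group]
    rw [show s * (Fi24.setup.g 0 * zG) * s⁻¹ = k * (Fi24.setup.g 0 * zG) * k⁻¹ from h]
    group
  have hcw : Commute w (S.dT aP * S.dT 0) := mul_inv_eq_iff_eq_mul.1 hconj
  rcases S.perm_pair aP_ne_zero (S.com_symm S.aP_com) hcw with ⟨-, h2⟩ | ⟨-, h2⟩
  · exact eP_ne_zero (hw0.symm.trans h2)
  · exact aP_ne_eP (h2.symm.trans hw0)

include R in
/-- An automorphism fixing the product is conjugation on the part centralising the pair. -/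
theorem exists_conj_LN (f : MulAut ↥NG) (hze : f S.zeN = S.zeN) :
    ∃ w : G, ∀ y ∈ LN, f y = cN w y := by
  obtain ⟨q, hq⟩ := S.induced R f hze
  obtain ⟨s, hs0, hse⟩ := S.exists_pair eP_ne_zero (S.com_symm S.base_com)
  obtain ⟨r, hr0, hre⟩ := S.exists_pair eP_ne_zero.symm S.base_com
  set t := s * r⁻¹ with ht
  have ht0 : S.φ t 0 = eP := by
    rw [ht, map_mul, map_inv, Equiv.Perm.mul_apply]
    nth_rw 1 [← hr0]
    rw [Equiv.Perm.inv_def, Equiv.symm_apply_apply, hs0]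
  have hte : S.φ t eP = 0 := by
    rw [ht, map_mul, map_inv, Equiv.Perm.mul_apply, ← hre, Equiv.Perm.inv_def, Equiv.symm_apply_apply, hse]
  obtain ⟨qs, hqs⟩ := S.induced R (cN t) (S.swap_fix ht0 hte)
  have hqs1 : (QuotientGroup.mk qs : Cfsg.Out Fi22Out.G) ≠ 1 := fun h =>
    S.swap_not_inner R ht0 hte qs hqs ((QuotientGroup.eq_one_iff qs).mp h)
  by_cases hq1 : (QuotientGroup.mk q : Cfsg.Out Fi22Out.G) = 1
  · obtain ⟨u, hu⟩ := (QuotientGroup.eq_one_iff q).mp hq1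
    obtain ⟨v, hv⟩ := S.ρL_surjective R u
    have hvC : ((v : ↥NG) : G) ∈ C2 := v.2
    refine ⟨((v : ↥NG) : G), S.eq_on_LN R f _ hze (S.C2_fix _ hvC) fun y => ?_⟩
    rw [hq, S.induced_conj R hvC, ← hu]
    show u * S.ρL R y * u⁻¹ = _
    rw [← hv]
    rfl
  · obtain ⟨o, -, huniq⟩ := (Nat.card_eq_two_iff' (1 : Cfsg.Out Fi22Out.G)).mp Fi22Out.card_out_Fi22
    have he : (QuotientGroup.mk qs : Cfsg.Out Fi22Out.G) = QuotientGroup.mk q :=
      (huniq _ hqs1).trans (huniq _ hq1).symm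
    obtain ⟨u, hu⟩ := QuotientGroup.eq.mp he
    obtain ⟨v, hv⟩ := S.ρL_surjective R u
    have hvC : ((v : ↥NG) : G) ∈ C2 := v.2
    have hfix : cN (t * ((v : ↥NG) : G)) S.zeN = S.zeN := by
      rw [show cN (t * ((v : ↥NG) : G)) = cN t * cN ((v : ↥NG) : G) from map_mul _ _ _, MulAut.mul_apply,
        S.C2_fix _ hvC, S.swap_fix ht0 hte]
    refine ⟨t * ((v : ↥NG) : G), S.eq_on_LN R f _ hze hfix fun y => ?_⟩
    have h1 : qs (u * S.ρL R y * u⁻¹) = q (S.ρL R y) := by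
      have hx : u * S.ρL R y * u⁻¹ = qs⁻¹ (q (S.ρL R y)) := DFunLike.congr_fun hu (S.ρL R y)
      rw [hx]
      exact qs.apply_symm_apply _
    have hmem : cN ((v : ↥NG) : G) y ∈ LN := S.maps_LN R (cN ((v : ↥NG) : G)).toMonoidHom (S.C2_fix _ hvC) y.2
    have h2 := hqs ⟨_, hmem⟩
    rw [hq, ← h1]
    have h3 : S.ρL R ⟨cN ((v : ↥NG) : G) y, hmem⟩ = u * S.ρL R y * u⁻¹ := by
      rw [S.induced_conj R hvC, ← hv]
      rfl
    rw [← h3, ← h2]
    exact congrArg (S.ρL R) (Subtype.ext (DFunLike.congr_fun (map_mul (MulAut.conjNormal (H := NG)) t _).symm (y : ↥NG)))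

end Act

end

end CfsgLib.Fi24Out
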