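import Cfsg.Agent.CosetEnum.Fi24.Suborbits
import Cfsg.Agent.CosetEnum.Fi24.Simple
import Cfsg.Agent.CosetEnum.Fi24.Transposition

/-!
The 306936 points of the presented group `Fi₂₄` as the conjugates of the generator `l`, with words,
the dictionary between commuting and fixing, and an equality test for words on twelve points.
-/

set_option autoImplicit false
set_option maxRecDepth 100000

namespace CfsgLib.Fi24Out

open CfsgLib.CosetEnum

noncomputable section

/-- The presented group. -/
abbrev G : Type := Fi24.setup.Grp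

/-- The number of points. -/
abbrev P : ℕ := 306936

/-- A product of letters. -/
abbrev el (w : List ℕ) : G := prodw Fi24.setup.g w

/-- The base transposition. -/
abbrev zG : G := Fi24.setup.g 11

/-- All letters of a word are letters of the presentation. -/
def okw (w : List ℕ) : Bool := w.all fun x => Nat.blt x 12

/-- The action, the order, faithfulness, the sign and the base point stabiliser. -/
structure Act where
  φ : G →* Equiv.Perm (Fin P)
  inj : Function.Injective φ
  spec : ∀ w : List ℕ, okw w = true → ∀ i : Fin P, (((φ (el w))⁻¹ i : Fin P) : ℕ) = Fi24H.walkT w i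
  stab : ∀ y : G, φ y 0 = 0 ↔ Commute y zG
  mem_H : ∀ y : G, y ∈ Fi24H.H ↔ φ y 0 = 0
  trans : ∀ q : Fin P, ∃ y : G, φ y 0 = q
  ε : G →* ℤˣ
  ε_g : ∀ x, x < 12 → ε (Fi24.setup.g x) = -1
  mem_N : ∀ y : G, y ∈ commutator G ↔ ε y = 1
  small : ∀ i : Fin P, φ zG i = i → i ≠ 0 → ∃ y : G, φ y 0 = 0 ∧ φ y ⟨8, by norm_num⟩ = i

theorem small_root : Fi24H.T 11 1 = 3 := by
  exact Nat.eq_of_beq_eq_true (by decide +kernel)

theorem exists_act : Nonempty Act := by
  haveI := Fi24.finite_grp
  obtain ⟨φ, e, hφ, he, he0, hinj, -, -, -, -⟩ := Fi24.order_and_action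
  obtain ⟨ε, hε⟩ := Fi24.exists_sign
  have hN := Fi24.commutator_eq hε
  have hspec : ∀ w : List ℕ, okw w = true → ∀ i : Fin P, (((φ (el w))⁻¹ i : Fin P) : ℕ) = Fi24H.walkT w i := by
    intro w hw i
    simp only [okw, List.all_eq_true, Nat.blt_eq] at hw
    have h : φ (el w) = prodw (Fi24H.perm Fi24H.fix_all) w := by
      rw [el, prodw, prodw, map_list_prod, List.map_map]
      exact congrArg List.prod (List.map_congr_left fun x hx => hφ x (hw x hx))
    rw [h]
    exact Fi24H.perm_word _ w hw i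
  have hmem : ∀ y : G, y ∈ Fi24H.H ↔ φ y 0 = 0 := fun y => (Fi24.mem_H_iff he he0 y).symm
  have hstab : ∀ y : G, φ y 0 = 0 ↔ Commute y zG := fun y => by
    rw [← hmem, ← Fi24.centralizer_eq, Subgroup.mem_centralizer_singleton_iff]
    rfl
  refine ⟨⟨φ, hinj, hspec, hstab, hmem, fun q => ?_, ε, hε, fun y => by rw [hN, MonoidHom.mem_ker], ?_⟩⟩
  · obtain ⟨c, hc⟩ := e.surjective q
    obtain ⟨y, rfl⟩ := QuotientGroup.mk_surjective c
    refine ⟨y, ?_⟩
    rw [← he0, ← he, MulAction.Quotient.smul_coe, smul_eq_mul, mul_one, hc]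
  · intro i hi hne
    have hi0 : i.val ≠ 0 := fun h => hne (Fin.ext h)
    obtain ⟨y, hy, hyi⟩ := Fi24.exists_mem_apply_root hφ i hi0
    rcases ((Fi24.label_spec i i.2).2.2 hi0).1 with h | h
    · exfalso
      have hc : Commute y zG := (hstab y).1 ((hmem y).1 hy)
      rw [h] at hyi
      have h1 : φ zG (Fi24.root 1) = Fi24.root 1 := (φ y).injective (by
        rw [← Equiv.Perm.mul_apply, ← map_mul, hc.eq, map_mul, Equiv.Perm.mul_apply, hyi, hi])
      rw [hφ 11 (by norm_num)] at h1
      have h2 := congrArg Fin.val h1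
      rw [Fi24H.perm_apply _ _ (by norm_num)] at h2
      exact absurd (small_root.symm.trans h2) (show (3 : ℕ) ≠ 1 by norm_num)
    · rw [h] at hyi
      exact ⟨y, (hmem y).1 hy, hyi⟩

theorem el_append (L M : List ℕ) : el (L ++ M) = el L * el M := by simp [el, prodw]

theorem el_reverse : ∀ L : List ℕ, el L.reverse = (el L)⁻¹
  | [] => by simp [el, prodw]
  | x :: L => by
    rw [List.reverse_cons, el_append, el_reverse L]
    simp [el, prodw, mul_inv_rev, Fi24.inv_g]

theorem el_cons (x : ℕ) (L : List ℕ) : el (x :: L) = Fi24.setup.g x * el L := by simp [el, prodw]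

theorem el_nil : el [] = 1 := by simp [el, prodw]

theorem el_single (x : ℕ) : el [x] = Fi24.setup.g x := by simp [el, prodw]

theorem okw_append {L M : List ℕ} : okw (L ++ M) = true ↔ okw L = true ∧ okw M = true := by simp [okw]

/-- The point list of the generators. -/
def g12 : List ℕ := [8, 16, 34, 75, 167, 347, 646, 169, 360, 1226, 3, 0]

/-- Paths from the base point to those of the generators. -/
def c12 : List (List ℕ) := [[10, 11, 0, 10],
  [10, 11, 0, 10, 1, 0],
  [10, 11, 0, 10, 1, 0, 2, 1],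
  [10, 11, 0, 10, 1, 0, 2, 1, 3, 2],
  [10, 11, 0, 10, 1, 0, 2, 1, 3, 2, 4, 3],
  [10, 11, 0, 10, 1, 0, 2, 1, 3, 2, 4, 3, 5, 4],
  [10, 11, 0, 10, 1, 0, 2, 1, 3, 2, 4, 3, 5, 4, 6, 5],
  [10, 11, 0, 10, 1, 0, 2, 1, 3, 2, 7, 3],
  [10, 11, 0, 10, 1, 0, 2, 1, 3, 2, 7, 3, 8, 7],
  [10, 11, 0, 10, 1, 0, 2, 1, 3, 2, 4, 3, 5, 4, 6, 5, 9, 6],
  [10, 11],
  []]

theorem g12_lt : g12.all (fun p => Nat.blt p 306936) = true := by decide +kernel

/-- A point by its number. -/
def fp (n : ℕ) : Fin P := if h : n < 306936 then ⟨n, h⟩ else 0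

theorem fp_val {n : ℕ} (h : n < 306936) : (fp n : ℕ) = n := by rw [fp, dif_pos h]

theorem fp_fin (i : Fin P) : fp (i : ℕ) = i := Fin.ext (fp_val i.2)

/-- Two words agree on the points of the generators. -/
def agree (L M : List ℕ) : Bool := g12.all fun k => Nat.beq (Fi24H.walkT L k) (Fi24H.walkT M k)

theorem g12_paths : (List.range 12).all (fun x => okw (c12.getD x []) &&
    Nat.beq (Fi24H.walkT (c12.getD x []) 0) (g12.getD x 0)) = true := by decide +kernel

namespace Act

variable (S : Act)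

theorem H_commute {y : G} (hy : S.φ y 0 = 0) : y * zG * y⁻¹ = zG := by
  rw [((S.stab y).1 hy).eq, mul_inv_cancel_right]

/-- The transposition of a point. -/
def dT (q : Fin P) : G := (S.trans q).choose * zG * (S.trans q).choose⁻¹

theorem conj_z (y : G) : y * zG * y⁻¹ = S.dT (S.φ y 0) := by
  unfold dT
  generalize hc : (S.trans (S.φ y 0)).choose = c
  have h : S.φ c 0 = S.φ y 0 := hc ▸ (S.trans (S.φ y 0)).choose_spec
  have h0 : S.φ (c⁻¹ * y) 0 = 0 := by
    rw [map_mul, map_inv, Equiv.Perm.mul_apply, ← h, Equiv.Perm.inv_def, Equiv.symm_apply_apply]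
  have hcom := ((S.stab _).1 h0).eq
  calc y * zG * y⁻¹ = c * (c⁻¹ * y * zG) * y⁻¹ := by group
    _ = c * zG * c⁻¹ := by rw [hcom]; group

theorem d_conj {y : G} {p q : Fin P} (h : S.φ y p = q) : S.dT q = y * S.dT p * y⁻¹ := by
  have hp := (S.trans p).choose_spec
  have hdef : S.dT p = (S.trans p).choose * zG * (S.trans p).choose⁻¹ := rfl
  generalize (S.trans p).choose = c at hp hdef
  have hq : S.φ (y * c) 0 = q := by rw [map_mul, Equiv.Perm.mul_apply, hp, h]
  rw [hdef, ← hq, ← S.conj_z (y * c)]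
  group

theorem dT_zero : S.dT 0 = zG := by
  have := S.conj_z 1
  rw [map_one, Equiv.Perm.one_apply, one_mul, inv_one, mul_one] at this
  exact this.symm

theorem d_inj {p q : Fin P} (h : S.dT p = S.dT q) : p = q := by
  obtain ⟨a, ha⟩ := S.trans p
  obtain ⟨b, hb⟩ := S.trans q
  rw [← ha, ← hb, ← S.conj_z a, ← S.conj_z b] at h
  have hc : Commute (b⁻¹ * a) zG := by
    show b⁻¹ * a * zG = zG * (b⁻¹ * a)
    calc b⁻¹ * a * zG = b⁻¹ * (a * zG * a⁻¹) * a := by group
      _ = b⁻¹ * (b * zG * b⁻¹) * a := by rw [h]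
      _ = _ := by group
  have h0 := (S.stab _).2 hc
  rw [map_mul, map_inv, Equiv.Perm.mul_apply, Equiv.Perm.inv_eq_iff_eq] at h0
  rw [← ha, ← hb, h0]

theorem commute_iff (y : G) (q : Fin P) : Commute y (S.dT q) ↔ S.φ y q = q := by
  constructor
  · intro h
    refine (S.d_inj ?_).symm
    rw [S.d_conj (p := q) (q := S.φ y q) (y := y) rfl, h.eq, mul_inv_cancel_right]
  · intro h
    have := S.d_conj h
    show y * S.dT q = S.dT q * y
    conv_rhs => rw [this]
    group

theorem dT_mul_self (q : Fin P) : S.dT q * S.dT q = 1 := by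
  rw [dT, show ∀ c : G, c * zG * c⁻¹ * (c * zG * c⁻¹) = c * (zG * zG) * c⁻¹ from fun c => by group,
    Fi24.sq_g, mul_one, mul_inv_cancel]

theorem dT_inv (q : Fin P) : (S.dT q)⁻¹ = S.dT q := inv_eq_of_mul_eq_one_right (S.dT_mul_self q)

theorem ε_dT (q : Fin P) : S.ε (S.dT q) = -1 := by
  rw [dT, map_mul, map_mul, map_inv, S.ε_g 11 (by norm_num), mul_comm, ← mul_assoc, inv_mul_cancel, one_mul]

theorem com_symm {p q : Fin P} (h : S.φ (S.dT p) q = q) : S.φ (S.dT q) p = p :=
  (S.commute_iff _ _).1 ((S.commute_iff _ _).2 h).symm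

theorem phi_el {L : List ℕ} (hL : okw L = true) (i : Fin P) :
    (((S.φ (el L))⁻¹ i : Fin P) : ℕ) = Fi24H.walkT L i := S.spec L hL i

theorem fix_iff {L : List ℕ} (hL : okw L = true) (i : Fin P) :
    S.φ (el L) i = i ↔ Fi24H.walkT L i = i := by
  rw [← S.phi_el hL, Fin.val_inj, Equiv.Perm.inv_eq_iff_eq]
  exact eq_comm

include S in
theorem walk_lt {L : List ℕ} (hL : okw L = true) {n : ℕ} (hn : n < 306936) : Fi24H.walkT L n < 306936 := by
  have := S.phi_el hL ⟨n, hn⟩
  rw [show ((⟨n, hn⟩ : Fin P) : ℕ) = n from rfl] at this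
  rw [← this]
  exact Fin.isLt _

/-- The point of a word. -/
theorem dT_word {c : List ℕ} (hc : okw c = true) :
    S.dT (fp (Fi24H.walkT c 0)) = el (c.reverse ++ 11 :: c) := by
  have h : S.φ (el c)⁻¹ 0 = fp (Fi24H.walkT c 0) := by
    refine Fin.ext ?_
    rw [fp_val (S.walk_lt hc (by norm_num)), map_inv]
    exact S.phi_el hc 0
  rw [← h, ← S.conj_z, inv_inv, el_append, el_reverse, el_cons, mul_assoc]

/-- The transpositions of the twelve points are the generators. -/
theorem dT_g12 {x : ℕ} (hx : x < 12) : S.dT (fp (g12.getD x 0)) = Fi24.setup.g x := by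
  have h := List.all_eq_true.mp g12_paths x (List.mem_range.mpr hx)
  simp only [Bool.and_eq_true, Nat.beq_eq] at h
  rw [← h.2, S.dT_word h.1]
  have step : ∀ (c : List ℕ) (a b : ℕ), el (c.reverse ++ 11 :: c) = Fi24.setup.g a →
      ([a, b, a, b, a, b] ∈ Fi24.words ∨ [b, a, b, a, b, a] ∈ Fi24.words) →
      el ((c ++ [b, a]).reverse ++ 11 :: (c ++ [b, a])) = Fi24.setup.g b := by
    intro c a b hc hw
    have hbr : Fi24.setup.g a * Fi24.setup.g b * Fi24.setup.g a = Fi24.setup.g b * Fi24.setup.g a * Fi24.setup.g b := by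
      rcases hw with hw | hw
      · exact Fi24.braid_g a b hw
      · exact (Fi24.braid_g b a hw).symm
    rw [show (c ++ [b, a]).reverse ++ 11 :: (c ++ [b, a]) = [a, b] ++ (c.reverse ++ 11 :: c) ++ [b, a] by
      simp, el_append, el_append, hc]
    simp only [el_cons, el_nil, mul_one]
    calc Fi24.setup.g a * Fi24.setup.g b * Fi24.setup.g a * (Fi24.setup.g b * Fi24.setup.g a)
        = Fi24.setup.g b * (Fi24.setup.g a * (Fi24.setup.g b * Fi24.setup.g b) * Fi24.setup.g a) := by
          rw [hbr]; simp only [mul_assoc]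
      _ = Fi24.setup.g b := by rw [Fi24.sq_g, mul_one, Fi24.sq_g, mul_one]
  have e11 : el (([] : List ℕ).reverse ++ 11 :: []) = Fi24.setup.g 11 := el_single 11
  have e10 := step [] 11 10 e11 (by decide +kernel)
  have e0 := step _ 10 0 e10 (by decide +kernel)
  have e1 := step _ 0 1 e0 (by decide +kernel)
  have e2 := step _ 1 2 e1 (by decide +kernel)
  have e3 := step _ 2 3 e2 (by decide +kernel)
  have e4 := step _ 3 4 e3 (by decide +kernel)
  have e7 := step _ 3 7 e3 (by decide +kernel)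
  have e5 := step _ 4 5 e4 (by decide +kernel)
  have e6 := step _ 5 6 e5 (by decide +kernel)
  have e9 := step _ 6 9 e6 (by decide +kernel)
  have e8 := step _ 7 8 e7 (by decide +kernel)
  interval_cases x
  exacts [e0, e1, e2, e3, e4, e5, e6, e7, e8, e9, e10, e11]

include S in
theorem eq_of_agree {L M : List ℕ} (hL : okw L = true) (hM : okw M = true)
    (h : agree L M = true) : el L = el M := by
  have key : el M * (el L)⁻¹ = 1 := by
    have hz : ∀ x, x < 12 → Commute (el M * (el L)⁻¹) (Fi24.setup.g x) := fun x hx => by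
      rw [← S.dT_g12 hx, S.commute_iff, map_mul, map_inv, Equiv.Perm.mul_apply]
      have hmem : g12.getD x 0 ∈ g12 := by
        rw [List.getD_eq_getElem _ _ (show x < g12.length from hx)]
        exact List.getElem_mem _
      have hlt : g12.getD x 0 < 306936 := by simpa using List.all_eq_true.mp g12_lt _ hmem
      have hk := Nat.eq_of_beq_eq_true (List.all_eq_true.mp h _ hmem)
      set p := fp (g12.getD x 0)
      have hp : (p : ℕ) = g12.getD x 0 := fp_val hlt
      have : (S.φ (el L))⁻¹ p = (S.φ (el M))⁻¹ p := Fin.ext (by rw [S.phi_el hL, S.phi_el hM, hp, hk])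
      rw [this, Equiv.Perm.inv_def, Equiv.apply_symm_apply]
    have hcen : ∀ y : G, Commute (el M * (el L)⁻¹) y := fun y => by
      have hy : y ∈ Subgroup.closure (Fi24.setup.g '' {x | x < 12}) := Fi24.closure_g ▸ Subgroup.mem_top y
      induction hy using Subgroup.closure_induction with
      | mem y hy => obtain ⟨x, hx, rfl⟩ := hy; exact hz x hx
      | one => exact Commute.one_right _
      | mul a b _ _ ha hb => exact ha.mul_right hb
      | inv a _ ha => exact ha.inv_right
    refine S.inj (Equiv.ext fun q => ?_)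
    rw [map_one, Equiv.Perm.one_apply]
    obtain ⟨y, rfl⟩ := S.trans q
    rw [← Equiv.Perm.mul_apply, ← map_mul, (hcen y).eq, map_mul, Equiv.Perm.mul_apply,
      (S.stab _).2 (hcen zG)]
  exact (mul_inv_eq_one.1 key).symm

include S in
theorem ne_of_moves {L M : List ℕ} (hL : okw L = true) (hM : okw M = true) {n : ℕ} (hn : n < 306936)
    (h : Nat.beq (Fi24H.walkT L n) (Fi24H.walkT M n) = false) : el L ≠ el M := by
  intro e
  have h1 := S.phi_el hL ⟨n, hn⟩
  rw [e, S.phi_el hM] at h1
  rw [show ((⟨n, hn⟩ : Fin P) : ℕ) = n from rfl] at h1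
  rw [h1, Nat.beq_refl] at h
  exact Bool.noConfusion h

end Act

end

end CfsgLib.Fi24Out
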