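import Cfsg.Agent.Fi24Out.Eleven
import Cfsg.Agent.SporadicOut.Criterion

/-!
The outer automorphism group of `Cfsg.Spor.Fi24'` has order 2.
-/

set_option autoImplicit false
set_option maxRecDepth 100000

namespace CfsgLib.Fi24Out

open CfsgLib.CosetEnum

noncomputable section

theorem facts_eleven : (1255205709190661721292800 : ℕ).factorization 11 = 1 := by
  have h : 1255205709190661721292800 = 11 ^ 1 * 114109609926423792844800 := by norm_num
  rw [h, Nat.factorization_mul (by norm_num) (by norm_num), Nat.Prime.factorization_pow (by norm_num)]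
  simp [Nat.factorization_eq_zero_of_not_dvd (show ¬ 11 ∣ 114109609926423792844800 by decide +kernel)]

/-- Adjacent generators commuting with the first product. -/
def P1 : List (Fin 12 × Fin 12) := [(0, 1), (1, 2), (2, 3), (3, 4), (3, 7), (4, 5), (7, 8)]

/-- Adjacent generators commuting with the second product. -/
def P2 : List (Fin 12 × Fin 12) := [(1, 2), (2, 3), (3, 4), (4, 5), (5, 6), (6, 9)]

theorem commute_checks : ([0, 1, 2, 3, 4, 5, 7, 8].all fun x => [0, 1, 2, 3, 4, 5, 7, 8].all fun y =>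
      agree [x, y, 9, 11] [9, 11, x, y]) = true ∧
    ([1, 2, 3, 4, 5, 6, 9].all fun x => [1, 2, 3, 4, 5, 6, 9].all fun y =>
      agree [x, y, 10, 8] [10, 8, x, y]) = true := by decide +kernel

theorem cube_checks : (P1 ++ P2).all (fun e => agree [e.1.val, e.2.val, e.1.val, e.2.val, e.1.val, e.2.val] []) = true ∧
    agree [9, 11, 6, 11, 9, 11, 6, 11, 9, 11, 6, 11] [] = true ∧
    agree [10, 8, 8, 0, 10, 8, 8, 0, 10, 8, 8, 0] [] = true ∧
    agree [10, 8, 8, 11, 10, 8, 8, 11, 10, 8, 8, 11] [] = true := by decide +kernel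

theorem small_checks : agree [9, 11] [11, 9] = true ∧ agree [10, 8] [8, 10] = true ∧
    agree [11, 9, 11] [9, 11, 11] = true := by decide +kernel

theorem el_pair (a b : Fin 12) : el [a.val, b.val] = (pr a b : G) := by
  show _ = Fi24.setup.g a * Fi24.setup.g b
  rw [el_cons, el_cons, el_nil, mul_one]

theorem okw_pair (a b : Fin 12) : okw [a.val, b.val] = true := by simp [okw, a.2, b.2]

theorem cN_mul (k l : G) : cN (k * l) = cN k * cN l := map_mul _ _ _

theorem cN_one : cN 1 = 1 := map_one _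

namespace Act

variable (S : Act) (R : Rho)
include S

theorem pr_pow_three {a b : Fin 12} (h : agree [a.val, b.val, a.val, b.val, a.val, b.val] [] = true) :
    pr a b ^ 3 = 1 := by
  refine Subtype.ext ?_
  rw [SubgroupClass.coe_pow, ← el_pair, OneMemClass.coe_one, ← el_nil,
    ← S.eq_of_agree (by simp [okw, a.2, b.2]) rfl h, pow_succ, pow_two, ← el_append, ← el_append]
  rfl

theorem pr_commute {a b c d : Fin 12} (h : agree [a.val, b.val, c.val, d.val] [c.val, d.val, a.val, b.val] = true) :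
    Commute (pr a b) (pr c d) := by
  refine Subtype.ext ?_
  show (pr a b : G) * (pr c d : G) = (pr c d : G) * (pr a b : G)
  rw [← el_pair, ← el_pair, ← el_append, ← el_append]
  exact S.eq_of_agree (by simp [okw, a.2, b.2, c.2, d.2]) (by simp [okw, a.2, b.2, c.2, d.2]) h

theorem mul_pr_pow_three {a b c d : Fin 12}
    (h : agree [a.val, b.val, c.val, d.val, a.val, b.val, c.val, d.val, a.val, b.val, c.val, d.val] [] = true) :
    (pr a b * pr c d) ^ 3 = 1 := by
  refine Subtype.ext ?_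
  rw [SubgroupClass.coe_pow, Subgroup.coe_mul, ← el_pair, ← el_pair, OneMemClass.coe_one, ← el_nil,
    ← S.eq_of_agree (by simp [okw, a.2, b.2, c.2, d.2]) rfl h, pow_succ, pow_two, ← el_append, ← el_append,
    ← el_append]
  rfl

theorem fix_pr (f : MulAut ↥NG) {a b : Fin 12} (ha : f (pr a 11) = pr a 11) (hb : f (pr b 11) = pr b 11) :
    f (pr a b) = pr a b := by
  rw [← pr_mul a 11 b, ← pr_inv b 11, map_mul, map_inv, ha, hb]

theorem pr_LN {a : Fin 12} (ha : a.val < 9) : pr a 11 ∈ LN := mul_mem (S.g_C2 ha) S.zG_C2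

theorem dwc_spec {p : ℕ} (hp : p ∈ cs1 ++ cs2) : okw (dwc p) = true ∧ S.dT (fp p) = el (dwc p) := by
  have h := List.all_eq_true.mp cs_paths p (List.mem_append_left _ hp)
  rw [List.contains_iff_mem, List.mem_map] at h
  obtain ⟨e, he, rfl⟩ := h
  have hok := List.all_eq_true.mp paths_ok e he
  simp only [Bool.and_eq_true, Nat.beq_eq, decide_eq_true_eq] at hok
  obtain ⟨⟨⟨h1, h2⟩, h3⟩, h4⟩ := hok
  refine ⟨h3, ?_⟩
  rw [h4, ← h2]
  exact S.dT_word h1

/-- The image of a product of two commuting generators is a product of two commuting transpositions. -/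
theorem image_pair (f : MulAut ↥NG) (hze : f S.zeN = S.zeN) {a b : Fin 12}
    (hne : g12.getD a.val 0 ≠ g12.getD b.val 0) (hc : agree [a.val, b.val] [b.val, a.val] = true) :
    ∃ p q : Fin P, p ≠ q ∧ S.φ (S.dT p) q = q ∧ ((f (pr a b) : ↥NG) : G) = S.dT p * S.dT q := by
  set p0 := fp (g12.getD a.val 0) with hp0
  set q0 := fp (g12.getD b.val 0) with hq0
  have hlt : ∀ x : Fin 12, g12.getD x.val 0 < 306936 := fun x => by
    have hmem : g12.getD x.val 0 ∈ g12 := by
      rw [List.getD_eq_getElem _ _ (show x.val < g12.length from x.2)]; exact List.getElem_mem _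
    simpa using List.all_eq_true.mp g12_lt _ hmem
  have hne0 : p0 ≠ q0 := fun h => hne (by rw [← fp_val (hlt a), ← fp_val (hlt b)]; exact congrArg Fin.val h)
  have hc0 : S.φ (S.dT p0) q0 = q0 := by
    rw [← S.commute_iff, hp0, hq0, S.dT_g12 a.2, S.dT_g12 b.2]
    show Fi24.setup.g a * Fi24.setup.g b = Fi24.setup.g b * Fi24.setup.g a
    have := S.eq_of_agree (okw_pair a b) (okw_pair b a) hc
    rwa [el_pair, el_pair] at this
  obtain ⟨y, hy, hyc⟩ := S.exists_conj_pair hne0 hc0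
  set Y : ↥NG := f ⟨y, hy⟩ with hY
  have hu : pr a b = ⟨y, hy⟩ * S.zeN * (⟨y, hy⟩ : ↥NG)⁻¹ := Subtype.ext (by
    show Fi24.setup.g a * Fi24.setup.g b = y * zeG * y⁻¹
    rw [hyc, hp0, hq0, S.dT_g12 a.2, S.dT_g12 b.2])
  refine ⟨S.φ (Y : G) 0, S.φ (Y : G) eP, fun h => eP_ne_zero ((S.φ (Y : G)).injective h).symm, ?_, ?_⟩
  · rw [← S.commute_iff, S.d_conj (y := (Y : G)) (p := 0) rfl, S.d_conj (y := (Y : G)) (p := eP) rfl]
    exact ((S.commute_iff _ _).2 S.base_com).map (MulAut.conj (Y : G))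
  · rw [hu, map_mul, map_mul, map_inv, hze]
    show (Y : G) * zeG * (Y : G)⁻¹ = _
    rw [S.zeG_eq, S.d_conj (y := (Y : G)) (p := 0) rfl, S.d_conj (y := (Y : G)) (p := eP) rfl]
    group

/-- Fixed elements of order three fix both points of the image. -/
theorem walk_fixed (f : MulAut ↥NG) {a b : Fin 12} {u : ↥NG} (hf : f (pr a b) = pr a b)
    (hc : Commute (pr a b) u) (h3 : pr a b ^ 3 = 1) {p q : Fin P} (hne : p ≠ q) (hpq : S.φ (S.dT p) q = q)
    (hu : ((f u : ↥NG) : G) = S.dT p * S.dT q) :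
    Fi24H.walkT [a.val, b.val] p.val = p.val ∧ Fi24H.walkT [a.val, b.val] q.val = q.val := by
  have hk : Commute (pr a b : G) (S.dT p * S.dT q) := by
    have h := congrArg Subtype.val (hc.map f).eq
    rw [hf, Subgroup.coe_mul, Subgroup.coe_mul, hu] at h
    exact h
  have h := S.fix_pair_of_cube hne hpq hk (by rw [← SubgroupClass.coe_pow, h3, OneMemClass.coe_one])
  rw [← el_pair, S.fix_iff (okw_pair a b), S.fix_iff (okw_pair a b)] at h
  exact h

/-- The checks satisfied by the two points of the image. -/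
theorem pairOK_of (f : MulAut ↥NG) {u : ↥NG} {L : List ℕ} {rels : List (List ℕ)} (hL : ∀ x ∈ L, x < 12)
    (hfix : ∀ a b : Fin 12, a.val ∈ L → b.val ∈ L → f (pr a b) = pr a b ∧ Commute (pr a b) u)
    (hrel : ∀ r ∈ rels, ∃ a b : Fin 12, r = [a.val, b.val] ∧ f (pr a b) = pr a b ∧ (u * pr a b) ^ 3 = 1)
    {p q : Fin P} (hp : p.val ∈ cs1 ++ cs2) (hq : q.val ∈ cs1 ++ cs2) (hpq : S.φ (S.dT p) q = q)
    (hu : ((f u : ↥NG) : G) = S.dT p * S.dT q) :
    pairOK L rels p.val q.val = true ∧ el (dwc p.val ++ dwc q.val) = ((f u : ↥NG) : G) := by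
  obtain ⟨hop, hdp⟩ := S.dwc_spec hp
  obtain ⟨hoq, hdq⟩ := S.dwc_spec hq
  rw [fp_fin] at hdp hdq
  have hel : el (dwc p.val ++ dwc q.val) = ((f u : ↥NG) : G) := by rw [el_append, ← hdp, ← hdq, hu]
  refine ⟨?_, hel⟩
  simp only [pairOK, Bool.and_eq_true, List.all_eq_true]
  refine ⟨⟨?_, fun x hx y hy => ?_⟩, fun r hr => ?_⟩
  · refine S.agree_of_eq (okw_append.2 ⟨hop, hoq⟩) (okw_append.2 ⟨hoq, hop⟩) ?_
    rw [el_append, el_append, ← hdp, ← hdq]
    exact S.pair_comm hpq
  · obtain ⟨hf, hc⟩ := hfix ⟨x, hL x hx⟩ ⟨y, hL y hy⟩ hx hy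
    have hxy := okw_pair ⟨x, hL x hx⟩ ⟨y, hL y hy⟩
    refine S.agree_of_eq (okw_append.2 ⟨okw_append.2 ⟨hop, hoq⟩, hxy⟩) (okw_append.2 ⟨hxy, okw_append.2 ⟨hop, hoq⟩⟩) ?_
    rw [el_append, el_append (L := [x, y]), hel, el_pair ⟨x, hL x hx⟩ ⟨y, hL y hy⟩]
    have h := congrArg Subtype.val (hc.map f).eq
    rw [hf, Subgroup.coe_mul, Subgroup.coe_mul] at h
    exact h.symm
  · obtain ⟨a, b, rfl, hf, h3⟩ := hrel r hr
    have hw := okw_append.2 ⟨okw_append.2 ⟨hop, hoq⟩, okw_pair a b⟩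
    refine S.agree_of_eq ?_ rfl ?_
    · simp only [List.replicate, List.flatten_cons, List.flatten_nil, List.append_nil, okw_append, okw_pair a b,
        hop, hoq, and_self]
    · rw [el_pow, el_append, hel, el_pair, el_nil, ← Subgroup.coe_mul, ← SubgroupClass.coe_pow]
      conv_lhs => rw [← hf, ← map_mul, ← map_pow, h3, map_one]
      rfl

theorem fix_LN_pr {f : MulAut ↥NG} (hf : ∀ y ∈ LN, f y = y) {a : Fin 12} (ha : a.val < 9 ∨ a = 11) :
    f (pr a 11) = pr a 11 := by
  rcases ha with h | rfl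
  · exact hf _ (S.pr_LN h)
  · rw [pr_self, map_one]

/-- First correction. -/
theorem exists_first (f : MulAut ↥NG) (hf : ∀ y ∈ LN, f y = y) :
    ∃ k : G, (∀ y ∈ LN, (cN k * f) y = y) ∧ (cN k * f) (pr 9 11) = pr 9 11 := by
  obtain ⟨p, q, hne, hpq, hu⟩ := S.image_pair f (hf _ S.zeN_LN) (a := 9) (b := 11) (by decide) small_checks.1
  have h9 : ∀ {a : Fin 12}, a.val ∈ [0, 1, 2, 3, 4, 5, 7, 8] → a.val < 9 := fun {a} h => by
    simp only [List.mem_cons, List.not_mem_nil, or_false] at h; omega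
  have hfix : ∀ a b : Fin 12, a.val ∈ [0, 1, 2, 3, 4, 5, 7, 8] → b.val ∈ [0, 1, 2, 3, 4, 5, 7, 8] →
      f (pr a b) = pr a b ∧ Commute (pr a b) (pr 9 11) := fun a b ha hb =>
    ⟨S.fix_pr f (S.fix_LN_pr hf (Or.inl (h9 ha))) (S.fix_LN_pr hf (Or.inl (h9 hb))),
      S.pr_commute (List.all_eq_true.mp (List.all_eq_true.mp commute_checks.1 _ ha) _ hb)⟩
  have hwalk : ∀ e ∈ P1, Fi24H.walkT [e.1.val, e.2.val] p.val = p.val ∧
      Fi24H.walkT [e.1.val, e.2.val] q.val = q.val := fun e he => by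
    have hm : e.1.val ∈ [0, 1, 2, 3, 4, 5, 7, 8] ∧ e.2.val ∈ [0, 1, 2, 3, 4, 5, 7, 8] := by
      revert e he; unfold P1; decide
    obtain ⟨h1, h2⟩ := hfix _ _ hm.1 hm.2
    exact S.walk_fixed f h1 h2
      (S.pr_pow_three (List.all_eq_true.mp cube_checks.1 e (List.mem_append_left _ he))) hne hpq hu
  have hmem : ∀ r : Fin P, (∀ e ∈ P1, Fi24H.walkT [e.1.val, e.2.val] r.val = r.val) → r.val ∈ cs1 := by
    intro r h
    simp only [P1, List.mem_cons, List.not_mem_nil, or_false, forall_eq_or_imp, forall_eq, Fi24H.walkT,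
      List.foldl_cons, List.foldl_nil, Fin.val_zero, Fin.val_one, Fin.coe_ofNat_eq_mod, Nat.reduceMod] at h
    simp only [T_zero, T_one, T_two, T_three, T_four, T_five, T_seven, T_eight] at h
    obtain ⟨a1, a2, a3, a4, a5, a6, a7⟩ := h
    have hs := firstFix_all r.val (Nat.zero_le _) r.2
    unfold firstFix at hs
    simp only [show Nat.blt r.val 306936 = true from Nat.blt_eq.mpr r.2, a1, a2, a3, a4, a5, a6, a7, Nat.beq_refl,
      Bool.and_self, cond_true, Bool.or_eq_true, Nat.beq_eq] at hs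
    simp only [cs1, List.mem_cons, List.not_mem_nil, or_false]
    omega
  have hp := hmem p fun e he => (hwalk e he).1
  have hq := hmem q fun e he => (hwalk e he).2
  have hrel : ∀ r ∈ [[6, 11]], ∃ a b : Fin 12, r = [a.val, b.val] ∧ f (pr a b) = pr a b ∧ (pr 9 11 * pr a b) ^ 3 = 1 := by
    intro r hr
    rw [List.mem_singleton] at hr
    exact ⟨6, 11, hr, S.fix_LN_pr hf (Or.inl (by decide)), S.mul_pr_pow_three cube_checks.2.1⟩
  obtain ⟨hok, hel⟩ := S.pairOK_of f (by decide) hfix hrel (List.mem_append_left _ hp) (List.mem_append_left _ hq)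
    hpq hu
  obtain ⟨hop, -⟩ := S.dwc_spec (List.mem_append_left cs2 hp)
  obtain ⟨hoq, -⟩ := S.dwc_spec (List.mem_append_left cs2 hq)
  have h := List.all_eq_true.mp (List.all_eq_true.mp firstPairs _ hp) _ hq
  rw [hok, show Nat.beq p.val q.val = false from Bool.eq_false_iff.mpr fun h => hne (Fin.ext (Nat.eq_of_beq_eq_true h))] at h
  simp only [Bool.not_true, Bool.false_or, Bool.or_eq_true] at h
  rcases h with h | h
  · refine ⟨1, fun y hy => by rw [cN_one, one_mul, hf y hy], ?_⟩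
    rw [cN_one, one_mul]
    refine Subtype.ext ?_
    rw [← hel, S.eq_of_agree (okw_append.2 ⟨hop, hoq⟩) (show okw [9, 11] = true from rfl) h]
    exact el_pair 9 11
  · refine ⟨eG⁻¹, fun y hy => Subtype.ext ?_, Subtype.ext ?_⟩
    · rw [MulAut.mul_apply, hf y hy, cN_coe, inv_inv, mul_assoc,
        (show Commute (y : G) eG from Subgroup.mem_centralizer_singleton_iff.1 hy.2).eq, inv_mul_cancel_left]
    · have he := S.eq_of_agree (okw_append.2 ⟨hop, hoq⟩) (okw_append.2 ⟨okw_append.2 ⟨eW_ok.1,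
        show okw [9, 11] = true from rfl⟩, by simpa [okw] using eW_ok.1⟩) h
      have h911 : el [9, 11] = (pr 9 11 : G) := el_pair 9 11
      rw [hel, el_append (L := eW ++ [9, 11]), el_append (L := eW), el_reverse, h911] at he
      rw [MulAut.mul_apply, cN_coe, he, inv_inv, show el eW = eG from rfl]
      group

/-- Second correction. -/
theorem exists_second (f : MulAut ↥NG) (hf : ∀ y ∈ LN, f y = y) (h911 : f (pr 9 11) = pr 9 11) :
    ∃ k : G, ∀ a : Fin 12, (cN k * f) (pr a 11) = pr a 11 := by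
  obtain ⟨p, q, hne, hpq, hu⟩ := S.image_pair f (hf _ S.zeN_LN) (a := 10) (b := 8) (by decide) small_checks.2.1
  have hgen : ∀ a : Fin 12, a ≠ 10 → f (pr a 11) = pr a 11 := fun a ha => by
    by_cases h : a.val < 9
    · exact S.fix_LN_pr hf (Or.inl h)
    · obtain rfl | rfl : a = 9 ∨ a = 11 := by
        rcases a with ⟨v, hv⟩
        simp only [Fin.ext_iff, ne_eq] at ha h ⊢
        simp at ha ⊢
        omega
      · exact h911
      · exact S.fix_LN_pr hf (Or.inr rfl)
  have hne10 : ∀ {a : Fin 12}, a.val ∈ [1, 2, 3, 4, 5, 6, 9] → a ≠ 10 := fun {a} h e => by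
    subst e; simp at h
  have hfix : ∀ a b : Fin 12, a.val ∈ [1, 2, 3, 4, 5, 6, 9] → b.val ∈ [1, 2, 3, 4, 5, 6, 9] →
      f (pr a b) = pr a b ∧ Commute (pr a b) (pr 10 8) := fun a b ha hb =>
    ⟨S.fix_pr f (hgen a (hne10 ha)) (hgen b (hne10 hb)),
      S.pr_commute (List.all_eq_true.mp (List.all_eq_true.mp commute_checks.2 _ ha) _ hb)⟩
  have hwalk : ∀ e ∈ P2, Fi24H.walkT [e.1.val, e.2.val] p.val = p.val ∧
      Fi24H.walkT [e.1.val, e.2.val] q.val = q.val := fun e he => by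
    have hm : e.1.val ∈ [1, 2, 3, 4, 5, 6, 9] ∧ e.2.val ∈ [1, 2, 3, 4, 5, 6, 9] := by
      revert e he; unfold P2; decide
    obtain ⟨h1, h2⟩ := hfix _ _ hm.1 hm.2
    exact S.walk_fixed f h1 h2
      (S.pr_pow_three (List.all_eq_true.mp cube_checks.1 e (List.mem_append_right _ he))) hne hpq hu
  have hmem : ∀ r : Fin P, (∀ e ∈ P2, Fi24H.walkT [e.1.val, e.2.val] r.val = r.val) → r.val ∈ cs2 := by
    intro r h
    simp only [P2, List.mem_cons, List.not_mem_nil, or_false, forall_eq_or_imp, forall_eq, Fi24H.walkT,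
      List.foldl_cons, List.foldl_nil, Fin.val_one, Fin.coe_ofNat_eq_mod, Nat.reduceMod] at h
    simp only [T_one, T_two, T_three, T_four, T_five, T_six, show Fi24H.T 9 = Fi24H.u9 from funext fun i => Fi24H.u9_eq i] at h
    obtain ⟨a1, a2, a3, a4, a5, a6⟩ := h
    have hs := secondFix_all r.val (Nat.zero_le _) r.2
    unfold secondFix at hs
    simp only [show Nat.blt r.val 306936 = true from Nat.blt_eq.mpr r.2, a1, a2, a3, a4, a5, a6, Nat.beq_refl,
      Bool.and_self, cond_true, Bool.or_eq_true, Nat.beq_eq] at hs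
    simp only [cs2, List.mem_cons, List.not_mem_nil, or_false]
    omega
  have hp := hmem p fun e he => (hwalk e he).1
  have hq := hmem q fun e he => (hwalk e he).2
  have hrel : ∀ r ∈ [[8, 0], [8, 11]], ∃ a b : Fin 12,
      r = [a.val, b.val] ∧ f (pr a b) = pr a b ∧ (pr 10 8 * pr a b) ^ 3 = 1 := by
    intro r hr
    simp only [List.mem_cons, List.not_mem_nil, or_false] at hr
    rcases hr with hr | hr
    · exact ⟨8, 0, hr, S.fix_pr f (hgen 8 (by decide)) (hgen 0 (by decide)), S.mul_pr_pow_three cube_checks.2.2.1⟩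
    · exact ⟨8, 11, hr, hgen 8 (by decide), S.mul_pr_pow_three cube_checks.2.2.2⟩
  obtain ⟨hok, hel⟩ := S.pairOK_of f (by decide) hfix hrel (List.mem_append_right _ hp) (List.mem_append_right _ hq)
    hpq hu
  obtain ⟨hop, -⟩ := S.dwc_spec (List.mem_append_right cs1 hp)
  obtain ⟨hoq, -⟩ := S.dwc_spec (List.mem_append_right cs1 hq)
  have h := List.all_eq_true.mp (List.all_eq_true.mp secondPairs _ hp) _ hq
  rw [hok, show Nat.beq p.val q.val = false from Bool.eq_false_iff.mpr fun h => hne (Fin.ext (Nat.eq_of_beq_eq_true h))] at h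
  simp only [Bool.not_true, Bool.false_or, Bool.or_eq_true] at h
  have h10 : pr 10 11 = pr 10 8 * pr 8 11 := (pr_mul 10 8 11).symm
  rcases h with h | h
  · refine ⟨1, fun a => ?_⟩
    rw [cN_one, one_mul]
    rcases eq_or_ne a 10 with rfl | ha
    · have he : f (pr 10 8) = pr 10 8 := Subtype.ext (by
        rw [← hel, S.eq_of_agree (okw_append.2 ⟨hop, hoq⟩) (show okw [10, 8] = true from rfl) h]
        exact el_pair 10 8)
      rw [h10, map_mul, he, hgen 8 (by decide)]
    · exact hgen a ha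
  · refine ⟨zG⁻¹, fun a => ?_⟩
    have hL : ∀ y ∈ LN, cN zG⁻¹ y = y := fun y hy => Subtype.ext (by
      rw [cN_coe, inv_inv, mul_assoc, (show Commute (y : G) zG from Subgroup.mem_centralizer_singleton_iff.1 hy.1).eq,
        inv_mul_cancel_left])
    have h9 : cN zG⁻¹ (pr 9 11) = pr 9 11 := Subtype.ext (by
      have hc := S.eq_of_agree (show okw [11, 9, 11] = true from rfl) (show okw [9, 11, 11] = true from rfl) small_checks.2.2
      simp only [el_cons, el_nil, mul_one] at hc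
      rw [cN_coe, inv_inv, Fi24.inv_g]
      show zG * (Fi24.setup.g 9 * Fi24.setup.g 11) * zG = Fi24.setup.g 9 * Fi24.setup.g 11
      rw [hc, mul_assoc, mul_assoc, Fi24.sq_g, mul_one])
    rcases eq_or_ne a 10 with rfl | ha
    · have he : (cN zG⁻¹ * f) (pr 10 8) = pr 10 8 := Subtype.ext (by
        have he := S.eq_of_agree (okw_append.2 ⟨hop, hoq⟩) (show okw [11, 10, 8, 11] = true from rfl) h
        rw [hel] at he
        rw [MulAut.mul_apply, cN_coe, he, inv_inv, Fi24.inv_g]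
        show _ = Fi24.setup.g 10 * Fi24.setup.g 8
        simp only [el_cons, el_nil, mul_one, mul_assoc, Fi24.sq_g]
        rw [← mul_assoc (Fi24.setup.g 11), Fi24.sq_g, one_mul])
      rw [h10, map_mul, he, MulAut.mul_apply, hgen 8 (by decide), hL _ (S.pr_LN (by decide))]
    · rw [MulAut.mul_apply, hgen a ha]
      by_cases h' : a.val < 9
      · exact hL _ (S.pr_LN h')
      · obtain rfl | rfl : a = 9 ∨ a = 11 := by
          rcases a with ⟨v, hv⟩
          simp only [Fin.ext_iff, ne_eq] at ha h' ⊢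
          simp at ha ⊢
          omega
        · exact h9
        · rw [pr_self, map_one]

theorem eq_one_of_pr (f : MulAut ↥NG) (h : ∀ a : Fin 12, f (pr a 11) = pr a 11) : f = 1 := by
  refine MulEquiv.ext fun y => ?_
  obtain ⟨w, hw, he⟩ := word_of_closure (M := {x | x < 12}) (y := (y : G)) (Fi24.closure_g ▸ Subgroup.mem_top _)
  have h' : el w ∈ NG := he ▸ y.2
  rw [show y = ⟨el w, h'⟩ from Subtype.ext he.symm]
  exact even_word_mem (K := MonoidHom.eqLocus f.toMonoidHom (MonoidHom.id ↥NG)) (M := {x | x < 12})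
    (fun x hx => hx) (fun a b _ _ => S.fix_pr f (h a) (h b)) w hw (S.even_of_N hw h') h'

theorem order_eleven : orderOf (⟨xG, S.xG_N⟩ : ↥NG) = 11 := by
  haveI : _root_.Fact (Nat.Prime 11) := ⟨by norm_num⟩
  exact orderOf_eq_prime (Subtype.ext S.xG_pow) fun h => S.xG_ne_one (congrArg Subtype.val h)

include R in
/-- An automorphism fixes the base product after an inner one. -/
theorem exists_fix_ze (α : MulAut ↥NG) : ∃ g : ↥NG, g * α S.zeN * g⁻¹ = S.zeN := by
  haveI := Fi24.finite_grp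
  haveI : _root_.Fact (Nat.Prime 11) := ⟨by norm_num⟩
  set X : ↥NG := ⟨xG, S.xG_N⟩ with hXdef
  have hX : orderOf X = 11 := S.order_eleven
  have hcom : Commute S.zeN X := Subtype.ext (S.zeG_comm_C2 S.xG_C2).symm.eq
  have hαX : orderOf (α X) = 11 := by rw [MulEquiv.orderOf_eq, hX]
  have hfac : (Nat.card ↥NG).factorization 11 = 1 := by rw [Fi24.card_commutator]; exact facts_eleven
  have hp : ∀ z : ↥NG, orderOf z = 11 → Nat.card (Subgroup.zpowers z) = 11 ^ (Nat.card ↥NG).factorization 11 :=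
    fun z hz => by rw [Nat.card_zpowers, hz, hfac, pow_one]
  obtain ⟨g, hg⟩ := MulAction.exists_smul_eq ↥NG (Sylow.ofCard _ (hp _ hαX)) (Sylow.ofCard _ (hp _ hX))
  set β : MulAut ↥NG := MulAut.conj g * α with hβ
  have hgz : β X ∈ Subgroup.zpowers X := by
    have hm : g * α X * g⁻¹ ∈ ((g • Sylow.ofCard _ (hp _ hαX) : Sylow 11 ↥NG) : Subgroup ↥NG) := by
      rw [Sylow.coe_subgroup_smul, Subgroup.mem_pointwise_smul_iff_inv_smul_mem]
      simp [mul_assoc]
    rw [hg] at hm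
    exact hm
  have heq : Subgroup.zpowers (β X) = Subgroup.zpowers X := by
    refine Subgroup.eq_of_le_of_card_ge (Subgroup.zpowers_le.mpr hgz) ?_
    rw [Nat.card_zpowers, Nat.card_zpowers, MulEquiv.orderOf_eq]
  obtain ⟨m, hm⟩ := Subgroup.mem_zpowers_iff.mp (heq ▸ Subgroup.mem_zpowers X : X ∈ Subgroup.zpowers (β X))
  have hc : Commute (β S.zeN) X := hm ▸ (hcom.map β).zpow_right m
  have hsq : β S.zeN * β S.zeN = 1 := by
    rw [← map_mul, show S.zeN * S.zeN = 1 from Subtype.ext S.zeG_sq, map_one]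
  obtain ⟨y, hy, hyt⟩ := S.eleven_conj R (β S.zeN).2 (congrArg Subtype.val hsq)
    (fun h => S.zeG_ne_one (congrArg Subtype.val (β.injective ((Subtype.ext h).trans (map_one β).symm) : S.zeN = 1)))
    (congrArg Subtype.val hc.eq)
  refine ⟨(⟨y, hy⟩ : ↥NG)⁻¹ * g, Subtype.ext ?_⟩
  have hb : ((β S.zeN : ↥NG) : G) = (g : G) * (α S.zeN : G) * (g : G)⁻¹ := rfl
  show y⁻¹ * (g : G) * (α S.zeN : G) * (y⁻¹ * (g : G))⁻¹ = zeG
  rw [show y⁻¹ * (g : G) * (α S.zeN : G) * (y⁻¹ * (g : G))⁻¹ = y⁻¹ * ((g : G) * (α S.zeN : G) * (g : G)⁻¹) * y by group,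
    ← hb, ← hyt]
  group

include R in
/-- Every automorphism of the derived group is conjugation by an element of the group. -/
theorem exists_cN (α : MulAut ↥NG) : ∃ k : G, α = cN k := by
  obtain ⟨g, hg⟩ := S.exists_fix_ze R α
  set α' : MulAut ↥NG := cN (g : G) * α with hα'
  have hze : α' S.zeN = S.zeN := by
    refine Subtype.ext ?_
    rw [hα', MulAut.mul_apply, cN_coe]
    exact congrArg Subtype.val hg
  obtain ⟨w, hw⟩ := S.exists_conj_LN R α' hze
  set f : MulAut ↥NG := cN w⁻¹ * α' with hfdef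
  have hf : ∀ y ∈ LN, f y = y := fun y hy => by
    rw [hfdef, MulAut.mul_apply, hw y hy, ← MulAut.mul_apply, ← cN_mul, inv_mul_cancel, cN_one, MulAut.one_apply]
  obtain ⟨k1, h1, h1'⟩ := S.exists_first f hf
  obtain ⟨k2, h2⟩ := S.exists_second _ h1 h1'
  have h := S.eq_one_of_pr _ h2
  refine ⟨(k2 * k1 * w⁻¹ * (g : G))⁻¹, ?_⟩
  rw [show cN (k2 * k1 * w⁻¹ * (g : G))⁻¹ = (cN (k2 * k1 * w⁻¹ * (g : G)))⁻¹ from map_inv _ _,
    eq_comm, inv_eq_iff_mul_eq_one, cN_mul, cN_mul, cN_mul]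
  rw [hfdef, hα'] at h
  simpa only [mul_assoc] using h

theorem zG_not_N : zG ∉ NG := fun h => by
  have := (S.mem_N _).1 h
  rw [S.ε_g 11 (by norm_num)] at this
  exact absurd this (by decide)

/-- An element centralising the derived group is trivial. -/
theorem eq_one_of_cent {c : G} (hc : ∀ y : ↥NG, Commute c (y : G)) : c = 1 := by
  have hpair : ∀ q : Fin P, 0 ≠ q → S.φ (S.dT 0) q = q → S.φ c 0 = 0 ∨ S.φ c 0 = q := fun q hne hq => by
    have hmem : S.dT 0 * S.dT q ∈ NG := by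
      rw [S.mem_N, map_mul, S.ε_dT, S.ε_dT]
      decide
    rcases S.perm_pair hne hq (hc ⟨_, hmem⟩) with ⟨h, -⟩ | ⟨h, -⟩
    · exact Or.inl h
    · exact Or.inr h
  have h0 : S.φ c 0 = 0 := by
    rcases hpair eP eP_ne_zero.symm S.base_com with h | h
    · exact h
    · rcases hpair aP aP_ne_zero.symm S.aP_com with h' | h'
      · exact h'
      · exact absurd (h'.symm.trans h) aP_ne_eP
  refine S.inj (Equiv.ext fun p => ?_)
  rw [map_one, Equiv.Perm.one_apply]
  obtain ⟨y, rfl⟩ : ∃ y : ↥NG, S.φ (y : G) 0 = p := by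
    obtain ⟨y, hy⟩ := S.trans p
    rcases Int.units_eq_one_or (S.ε y) with h | h
    · exact ⟨⟨y, (S.mem_N y).2 h⟩, hy⟩
    · refine ⟨⟨y * zG, (S.mem_N _).2 (by rw [map_mul, h, S.ε_g 11 (by norm_num)]; rfl)⟩, ?_⟩
      show S.φ (y * zG) 0 = p
      rw [map_mul, Equiv.Perm.mul_apply, (S.stab zG).2 (Commute.refl _), hy]
  rw [← Equiv.Perm.mul_apply, ← map_mul, (hc y).eq, map_mul, Equiv.Perm.mul_apply, h0]

end Act

/-- The outer automorphism group of the derived group of the presented group has order two. -/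
theorem card_out_NG : Nat.card (Cfsg.Out ↥NG) = 2 := by
  obtain ⟨S⟩ := exists_act
  obtain ⟨R⟩ := exists_rho
  refine CfsgLib.SporadicOut.card_out_eq_two (fun y : ↥NG => y) ?_ (cN zG) (fun φ => ?_) fun g => ?_
  · rw [Set.range_id']
    exact Subgroup.closure_univ
  · obtain ⟨k, rfl⟩ := S.exists_cN R φ
    rcases Int.units_eq_one_or (S.ε k) with h | h
    · refine ⟨(⟨k, (S.mem_N k).2 h⟩ : ↥NG)⁻¹, Or.inl fun y => Subtype.ext ?_⟩
      show k⁻¹ * ((cN k y : ↥NG) : G) * k⁻¹⁻¹ = (y : G)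
      rw [cN_coe]
      group
    · refine ⟨⟨zG * k⁻¹, (S.mem_N _).2 (by rw [map_mul, map_inv, h, S.ε_g 11 (by norm_num)]; rfl)⟩,
        Or.inr fun y => Subtype.ext ?_⟩
      show zG * k⁻¹ * ((cN k y : ↥NG) : G) * (zG * k⁻¹)⁻¹ = ((cN zG y : ↥NG) : G)
      rw [cN_coe, cN_coe]
      group
  · by_contra hall
    push Not at hall
    refine S.zG_not_N ?_
    have h1 : zG⁻¹ * (g : G) = 1 := S.eq_one_of_cent fun y => by
      have h2 : (g : G) * y * (g : G)⁻¹ = zG * y * zG⁻¹ := (congrArg Subtype.val (hall y)).trans (cN_coe zG y)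
      show zG⁻¹ * (g : G) * y = y * (zG⁻¹ * (g : G))
      calc zG⁻¹ * (g : G) * y = zG⁻¹ * ((g : G) * y * (g : G)⁻¹) * g := by group
        _ = zG⁻¹ * (zG * y * zG⁻¹) * g := by rw [h2]
        _ = y * (zG⁻¹ * (g : G)) := by group
    rw [inv_mul_eq_one.1 h1]
    exact g.2

end

end CfsgLib.Fi24Out
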