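import Cfsg.Agent.Fi24Out.Data

/-!
A product of two commuting transpositions of `Cfsg.Spor.Fi24` determines the pair, and all such
products are conjugate under the derived group.
-/

set_option autoImplicit false
set_option maxRecDepth 100000

namespace CfsgLib.Fi24Out

open CfsgLib.CosetEnum

noncomputable section

/-- The second transposition. -/
def eG : G := el eW

/-- Its point. -/
def eP : Fin P := ⟨87475, show 87475 < 306936 by norm_num⟩

/-- The point of the generator `a`. -/
def aP : Fin P := ⟨8, show 8 < 306936 by norm_num⟩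

/-- The product of the first two transpositions. -/
def zeG : G := zG * eG

theorem nine_fix_eP : (List.range 9).all (fun x => Nat.beq (Fi24H.walkT [x] 87475) 87475 &&
    Nat.beq (Fi24H.walkT [x] 0) 0) = true := by decide +kernel

namespace Act

variable (S : Act)

theorem dT_eP : S.dT eP = eG := by
  obtain ⟨h1, h2, h3, h4, -⟩ := eW_ok
  have h := S.dT_word h2
  rw [h3, show fp 87475 = eP from Fin.ext (fp_val (by norm_num))] at h
  rw [h, eG]
  exact (S.eq_of_agree h1 (okw_append.2 ⟨by simpa [okw] using h2, by simpa [okw] using h2⟩) h4).symm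

theorem dT_aP : S.dT aP = Fi24.setup.g 0 := by
  rw [← S.dT_g12 (x := 0) (by norm_num)]
  congr 1

theorem zG_eP : S.φ zG eP = eP := by
  rw [← S.dT_zero]
  refine S.com_symm ?_
  rw [S.dT_eP, eG, S.fix_iff eW_ok.1]
  exact eW_ok.2.2.2.2

theorem eP_ne_zero : eP ≠ (0 : Fin P) := fun h => absurd (congrArg Fin.val h) (by simp [eP])

theorem aP_ne_zero : aP ≠ (0 : Fin P) := fun h => absurd (congrArg Fin.val h) (by simp [aP])

theorem aP_ne_eP : aP ≠ eP := fun h => absurd (congrArg Fin.val h) (by simp [aP, eP])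

theorem aP_com : S.φ (S.dT 0) aP = aP := by
  rw [S.dT_zero, ← S.commute_iff, S.dT_aP]
  exact (Fi24.commute_g 0 11 (by decide +kernel)).symm

/-- Any two commuting transpositions are the images of the first two generators. -/
theorem exists_pair {p q : Fin P} (hne : p ≠ q) (hc : S.φ (S.dT p) q = q) :
    ∃ y : G, S.φ y 0 = p ∧ S.φ y aP = q := by
  obtain ⟨c, rfl⟩ := S.trans p
  rw [← S.conj_z, map_mul, map_mul, map_inv, Equiv.Perm.mul_apply, Equiv.Perm.mul_apply] at hc
  set i := (S.φ c)⁻¹ q with hi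
  have hq : S.φ c i = q := by rw [hi, Equiv.Perm.inv_def, Equiv.apply_symm_apply]
  have hfix : S.φ zG i = i := (S.φ c).injective (hc.trans hq.symm)
  have hi0 : i ≠ 0 := fun h => hne (by rw [← hq, h])
  obtain ⟨y, hy0, hy8⟩ := S.small i hfix hi0
  refine ⟨c * y, by rw [map_mul, Equiv.Perm.mul_apply, hy0], ?_⟩
  rw [map_mul, Equiv.Perm.mul_apply, show aP = (⟨8, by norm_num⟩ : Fin P) from rfl, hy8, hq]

theorem fix_base {r : Fin P} (h : S.φ (S.dT 0 * S.dT aP) r = r) :
    S.φ (S.dT 0) r = r ∧ S.φ (S.dT aP) r = r := by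
  rw [S.dT_zero, S.dT_aP] at h ⊢
  have hw : el [11, 0] = zG * Fi24.setup.g 0 := by simp [el_cons, el_nil]
  have hz : el [11] = zG := el_single 11
  rw [← hw, S.fix_iff (by decide)] at h
  have hs := pairFix_all r.val (Nat.zero_le _) r.2
  unfold pairFix at hs
  rw [show Nat.blt r.val 306936 = true from Nat.blt_eq.mpr r.2] at hs
  simp only [cond_true, force_eq] at hs
  rw [show Nat.beq (Fi24H.u0 (Fi24H.u11 r.val)) r.val = true from Nat.beq_eq.mpr h, cond_true, Nat.beq_eq] at hs
  have h11 : Fi24H.T 11 r.val = r.val := hs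
  refine ⟨by rw [← hz, S.fix_iff (by decide)]; exact h11, ?_⟩
  rw [← el_single 0, S.fix_iff (by decide)]
  have h0 : Fi24H.T 0 (Fi24H.T 11 r.val) = r.val := h
  rw [h11] at h0
  exact h0

theorem fix_prod {p q : Fin P} (hne : p ≠ q) (hc : S.φ (S.dT p) q = q) {r : Fin P}
    (h : S.φ (S.dT p * S.dT q) r = r) : S.φ (S.dT p) r = r ∧ S.φ (S.dT q) r = r := by
  obtain ⟨y, rfl, rfl⟩ := S.exists_pair hne hc
  obtain ⟨r, rfl⟩ := (S.φ y).surjective r
  have key : ∀ p r, S.φ (S.dT (S.φ y p)) (S.φ y r) = S.φ y (S.φ (S.dT p) r) := fun p r => by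
    rw [S.d_conj (y := y) (p := p) rfl, map_mul, map_mul, map_inv, Equiv.Perm.mul_apply, Equiv.Perm.mul_apply,
      Equiv.Perm.inv_def, Equiv.symm_apply_apply]
  rw [map_mul, Equiv.Perm.mul_apply, S.d_conj (y := y) (p := aP) rfl, map_mul, map_mul, map_inv,
    Equiv.Perm.mul_apply, Equiv.Perm.mul_apply, Equiv.Perm.inv_def, Equiv.symm_apply_apply, key] at h
  have hb := S.fix_base (r := r) (by rw [map_mul, Equiv.Perm.mul_apply]; exact (S.φ y).injective h)
  rw [key, key, hb.1, hb.2]
  exact ⟨rfl, rfl⟩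

include S in
theorem nine_commute {x : ℕ} (hx : x < 9) :
    Commute (Fi24.setup.g x) zG ∧ Commute (Fi24.setup.g x) eG := by
  have h := List.all_eq_true.mp nine_fix_eP x (List.mem_range.mpr hx)
  simp only [Bool.and_eq_true, Nat.beq_eq] at h
  have hw : okw [x] = true := by simp [okw]; omega
  refine ⟨?_, ?_⟩
  · rw [← S.stab, ← el_single, S.fix_iff hw]
    exact h.2
  · rw [← S.dT_eP, S.commute_iff, ← el_single, S.fix_iff hw]
    exact h.1

/-- A member of the base pair is recognised by the fixed points of the product. -/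
theorem pair_base {u : Fin P} (hu : S.φ zeG u = u)
    (hall : ∀ r, S.φ zeG r = r → S.φ (S.dT u) r = r) : u = 0 ∨ u = eP := by
  have hfix : ∀ x, x < 9 → Fi24H.T x u.val = u.val := by
    intro x hx
    obtain ⟨h1, h2⟩ := S.nine_commute hx
    have hc : Commute zeG (Fi24.setup.g x) := h1.symm.mul_left h2.symm
    rw [← S.dT_g12 (x := x) (by omega), S.commute_iff] at hc
    have h3 := (S.commute_iff _ _).2 (hall _ hc)
    rw [S.dT_g12 (by omega)] at h3
    have h4 := (S.commute_iff _ _).1 h3.symm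
    rw [← el_single, S.fix_iff (by simp [okw]; omega)] at h4
    exact h4
  have hs := nineFix_all u.val (Nat.zero_le _) u.2
  unfold nineFix at hs
  rw [show Nat.blt u.val 306936 = true from Nat.blt_eq.mpr u.2] at hs
  simp only [cond_true] at hs
  have hcond : ∀ x, x < 9 → Fi24H.uAt x u.val = u.val := fun x hx => by
    rw [Fi24H.uAt_eq x u.val (by omega)]; exact hfix x hx
  rw [show Nat.beq (Fi24H.u0 u.val) u.val = true from Nat.beq_eq.mpr (hcond 0 (by norm_num)),
    show Nat.beq (Fi24H.u1 u.val) u.val = true from Nat.beq_eq.mpr (hcond 1 (by norm_num)),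
    show Nat.beq (Fi24H.u2 u.val) u.val = true from Nat.beq_eq.mpr (hcond 2 (by norm_num)),
    show Nat.beq (Fi24H.u3 u.val) u.val = true from Nat.beq_eq.mpr (hcond 3 (by norm_num)),
    show Nat.beq (Fi24H.u4 u.val) u.val = true from Nat.beq_eq.mpr (hcond 4 (by norm_num)),
    show Nat.beq (Fi24H.u5 u.val) u.val = true from Nat.beq_eq.mpr (hcond 5 (by norm_num)),
    show Nat.beq (Fi24H.u6 u.val) u.val = true from Nat.beq_eq.mpr (hcond 6 (by norm_num)),
    show Nat.beq (Fi24H.u7 u.val) u.val = true from Nat.beq_eq.mpr (hcond 7 (by norm_num)),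
    show Nat.beq (Fi24H.u8 u.val) u.val = true from Nat.beq_eq.mpr (hcond 8 (by norm_num))] at hs
  simp only [Bool.and_true, cond_true, Bool.or_eq_true, Nat.beq_eq] at hs
  rcases hs with h | h
  · exact Or.inl (Fin.ext h)
  · exact Or.inr (Fin.ext h)

/-- The two points of a product of two commuting transpositions. -/
def InPair (t : G) (u : Fin P) : Prop :=
  S.φ t u = u ∧ ∀ r, S.φ t r = r → S.φ (S.dT u) r = r

theorem inPair_conj {t : G} {u : Fin P} (y : G) (h : S.InPair t u) :
    S.InPair (y * t * y⁻¹) (S.φ y u) := by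
  have key : ∀ r, S.φ (y * t * y⁻¹) (S.φ y r) = S.φ y (S.φ t r) := fun r => by
    rw [map_mul, map_mul, map_inv, Equiv.Perm.mul_apply, Equiv.Perm.mul_apply,
      Equiv.Perm.inv_def, Equiv.symm_apply_apply]
  refine ⟨by rw [key, h.1], fun r hr => ?_⟩
  obtain ⟨r, rfl⟩ := (S.φ y).surjective r
  rw [key] at hr
  rw [S.d_conj (y := y) (p := u) rfl, map_mul, map_mul, map_inv, Equiv.Perm.mul_apply,
    Equiv.Perm.mul_apply, Equiv.Perm.inv_def, Equiv.symm_apply_apply, h.2 r ((S.φ y).injective hr)]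

theorem pair_left {p q : Fin P} (hne : p ≠ q) (hc : S.φ (S.dT p) q = q) :
    S.InPair (S.dT p * S.dT q) p := by
  refine ⟨?_, fun r hr => (S.fix_prod hne hc hr).1⟩
  rw [map_mul, Equiv.Perm.mul_apply, S.com_symm hc, (S.commute_iff _ _).1 (Commute.refl _)]

theorem pair_comm {p q : Fin P} (hc : S.φ (S.dT p) q = q) : S.dT p * S.dT q = S.dT q * S.dT p :=
  ((S.commute_iff _ _).2 hc).eq

theorem pair_right {p q : Fin P} (hne : p ≠ q) (hc : S.φ (S.dT p) q = q) :
    S.InPair (S.dT p * S.dT q) q := by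
  rw [S.pair_comm hc]
  exact S.pair_left hne.symm (S.com_symm hc)

theorem base_com : S.φ (S.dT 0) eP = eP := by rw [S.dT_zero]; exact S.zG_eP

theorem zeG_eq : zeG = S.dT 0 * S.dT eP := by rw [S.dT_zero, S.dT_eP]; rfl

/-- A product of two commuting transpositions determines them. -/
theorem eq_or_eq {p q u : Fin P} (hne : p ≠ q) (hc : S.φ (S.dT p) q = q)
    (hu : S.InPair (S.dT p * S.dT q) u) : u = p ∨ u = q := by
  obtain ⟨y₁, hy10, hy1e⟩ := S.exists_pair eP_ne_zero.symm S.base_com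
  obtain ⟨y₂, hy20, hy2e⟩ := S.exists_pair hne hc
  set y := y₁ * y₂⁻¹ with hy
  have h0 : S.φ y p = 0 := by
    rw [hy, map_mul, map_inv, Equiv.Perm.mul_apply, ← hy20, Equiv.Perm.inv_def, Equiv.symm_apply_apply, hy10]
  have he : S.φ y q = eP := by
    rw [hy, map_mul, map_inv, Equiv.Perm.mul_apply, ← hy2e, Equiv.Perm.inv_def, Equiv.symm_apply_apply, hy1e]
  have h := S.inPair_conj y hu
  rw [show y * (S.dT p * S.dT q) * y⁻¹ = y * S.dT p * y⁻¹ * (y * S.dT q * y⁻¹) by group,
    ← S.d_conj h0, ← S.d_conj he, ← S.zeG_eq] at h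
  rcases S.pair_base h.1 h.2 with e | e
  · exact Or.inl ((S.φ y).injective (e.trans h0.symm))
  · exact Or.inr ((S.φ y).injective (e.trans he.symm))

/-- An element centralising the product permutes the pair. -/
theorem perm_pair {p q : Fin P} (hne : p ≠ q) (hc : S.φ (S.dT p) q = q) {k : G}
    (hk : Commute k (S.dT p * S.dT q)) :
    (S.φ k p = p ∧ S.φ k q = q) ∨ (S.φ k p = q ∧ S.φ k q = p) := by
  have hconj : k * (S.dT p * S.dT q) * k⁻¹ = S.dT p * S.dT q := by rw [hk.eq, mul_inv_cancel_right]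
  have hp := S.inPair_conj k (S.pair_left hne hc)
  have hq := S.inPair_conj k (S.pair_right hne hc)
  rw [hconj] at hp hq
  rcases S.eq_or_eq hne hc hp with h1 | h1 <;> rcases S.eq_or_eq hne hc hq with h2 | h2
  · exact absurd ((S.φ k).injective (h1.trans h2.symm)) hne
  · exact Or.inl ⟨h1, h2⟩
  · exact Or.inr ⟨h1, h2⟩
  · exact absurd ((S.φ k).injective (h1.trans h2.symm)) hne

/-- An element of order dividing three centralising the product fixes both. -/
theorem fix_pair_of_cube {p q : Fin P} (hne : p ≠ q) (hc : S.φ (S.dT p) q = q) {k : G}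
    (hk : Commute k (S.dT p * S.dT q)) (h3 : k ^ 3 = 1) : S.φ k p = p ∧ S.φ k q = q := by
  refine (S.perm_pair hne hc hk).resolve_right fun ⟨h1, h2⟩ => hne ?_
  have h : S.φ (k ^ 3) p = p := by rw [h3, map_one, Equiv.Perm.one_apply]
  rw [map_pow, pow_succ, pow_two, Equiv.Perm.mul_apply, Equiv.Perm.mul_apply, h1, h2, h1] at h
  exact h.symm

theorem zG_aP : S.φ zG aP = aP := by rw [← S.dT_zero]; exact S.aP_com

/-- Products of two commuting transpositions are conjugate in the derived group. -/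
theorem exists_conj_pair {p q : Fin P} (hne : p ≠ q) (hc : S.φ (S.dT p) q = q) :
    ∃ y ∈ commutator G, y * zeG * y⁻¹ = S.dT p * S.dT q := by
  obtain ⟨y₁, hy10, hy1e⟩ := S.exists_pair eP_ne_zero.symm S.base_com
  obtain ⟨y₂, hy20, hy2e⟩ := S.exists_pair hne hc
  set y := y₂ * y₁⁻¹ with hy
  have h0 : S.φ y 0 = p := by
    rw [hy, map_mul, map_inv, Equiv.Perm.mul_apply]
    nth_rw 1 [← hy10]
    rw [Equiv.Perm.inv_def, Equiv.symm_apply_apply, hy20]
  have he : S.φ y eP = q := by
    rw [hy, map_mul, map_inv, Equiv.Perm.mul_apply, ← hy1e, Equiv.Perm.inv_def, Equiv.symm_apply_apply, hy2e]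
  have hconj : y * zeG * y⁻¹ = S.dT p * S.dT q := by
    rw [S.zeG_eq, show y * (S.dT 0 * S.dT eP) * y⁻¹ = y * S.dT 0 * y⁻¹ * (y * S.dT eP * y⁻¹) by group,
      ← S.d_conj h0, ← S.d_conj he]
  rcases Int.units_eq_one_or (S.ε y) with h | h
  · exact ⟨y, (S.mem_N y).2 h, hconj⟩
  · refine ⟨y * zG, (S.mem_N _).2 (by rw [map_mul, h, S.ε_g 11 (by norm_num)]; rfl), ?_⟩
    have hz : zG * zeG * zG⁻¹ = zeG := by
      have : Commute zG zeG := (Commute.refl zG).mul_right (by
        rw [← S.dT_eP]; exact (S.commute_iff _ _).2 S.zG_eP)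
      rw [this.eq, mul_inv_cancel_right]
    rw [show y * zG * zeG * (y * zG)⁻¹ = y * (zG * zeG * zG⁻¹) * y⁻¹ by group, hz, hconj]

end Act

end

end CfsgLib.Fi24Out
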